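import Mathlib

/-!
# The algebra of the recognition of `PSU₃(q)`, `q` odd

A group `Q` with coordinates in `SL₂(F)` off a central subgroup `δ(F)`, an involutory automorphism `J`
inverting `Q/δ(F)` and satisfying the key relation (`Coord.key`). The "reduced first row" `R` is a homomorphism
`Q → F²` and determines everything.
-/

set_option autoImplicit false

namespace Cfsg.Agent.UThreeOdd.Alg

variable {F : Type*} [Field F] {Q : Type*} [Group Q]

/-- The determinant of two vectors. -/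
def dt (u v : F × F) : F := u.1 * v.2 - u.2 * v.1

theorem dt_self (u : F × F) : dt u u = 0 := by unfold dt; ring

theorem dt_swap (u v : F × F) : dt v u = -dt u v := by unfold dt; ring

theorem dt_add_left (u v w : F × F) : dt (u + v) w = dt u w + dt v w := by
  unfold dt; simp only [Prod.fst_add, Prod.snd_add]; ring

theorem dt_add_right (u v w : F × F) : dt u (v + w) = dt u v + dt u w := by
  unfold dt; simp only [Prod.fst_add, Prod.snd_add]; ring

theorem dt_smul_left (c : F) (u v : F × F) : dt (c • u) v = c * dt u v := by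
  unfold dt; simp only [Prod.smul_fst, Prod.smul_snd, smul_eq_mul]; ring

theorem dt_smul_right (c : F) (u v : F × F) : dt u (c • v) = c * dt u v := by
  unfold dt; simp only [Prod.smul_fst, Prod.smul_snd, smul_eq_mul]; ring

theorem dt_neg_left (u v : F × F) : dt (-u) v = -dt u v := by
  unfold dt; simp only [Prod.fst_neg, Prod.snd_neg]; ring

theorem dt_neg_right (u v : F × F) : dt u (-v) = -dt u v := by
  unfold dt; simp only [Prod.fst_neg, Prod.snd_neg]; ring

theorem dt_sub_left (u v w : F × F) : dt (u - v) w = dt u w - dt v w := by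
  unfold dt; simp only [Prod.fst_sub, Prod.snd_sub]; ring

theorem dt_zero_left (v : F × F) : dt 0 v = 0 := by
  unfold dt; simp

theorem dt_zero_right (v : F × F) : dt v 0 = 0 := by
  unfold dt; simp

/-- Two vectors with the same determinants against a basis are equal. -/
theorem ext_dt {u v a b : F × F} (h : dt u v ≠ 0) (h1 : dt a u = dt b u) (h2 : dt a v = dt b v) : a = b := by
  unfold dt at *
  have e1 : (a.1 - b.1) * (u.1 * v.2 - u.2 * v.1) = 0 := by linear_combination u.1 * h2 - v.1 * h1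
  have e2 : (a.2 - b.2) * (u.1 * v.2 - u.2 * v.1) = 0 := by linear_combination u.2 * h2 - v.2 * h1
  ext
  · rcases mul_eq_zero.mp e1 with h3 | h3
    · exact sub_eq_zero.mp h3
    · exact absurd h3 h
  · rcases mul_eq_zero.mp e2 with h3 | h3
    · exact sub_eq_zero.mp h3
    · exact absurd h3 h

theorem cramer (u v w : F × F) : dt u v • w = dt w v • u + dt u w • v := by
  unfold dt
  ext <;> simp only [Prod.smul_fst, Prod.smul_snd, Prod.fst_add, Prod.snd_add, smul_eq_mul] <;> ring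

theorem exists_smul {u v : F × F} (hu : u ≠ 0) (h : dt u v = 0) : ∃ c : F, v = c • u := by
  have h' : u.1 ≠ 0 ∨ u.2 ≠ 0 := by
    by_contra h2
    push Not at h2
    exact hu (Prod.ext h2.1 h2.2)
  unfold dt at h
  rcases h' with h1 | h1
  · refine ⟨v.1 / u.1, ?_⟩
    ext
    · simp only [Prod.smul_fst, smul_eq_mul]; field_simp
    · simp only [Prod.smul_snd, smul_eq_mul]; field_simp; linear_combination h
  · refine ⟨v.2 / u.2, ?_⟩
    ext
    · simp only [Prod.smul_fst, smul_eq_mul]; field_simp; linear_combination -h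
    · simp only [Prod.smul_snd, smul_eq_mul]; field_simp

theorem exists_indep {u v : F × F} (hu : u ≠ 0) (hv : v ≠ 0) : ∃ t : F × F, dt u t ≠ 0 ∧ dt v t ≠ 0 := by
  have h' : ∀ w : F × F, w ≠ 0 → w.1 ≠ 0 ∨ w.2 ≠ 0 := by
    intro w hw
    by_contra h2
    push Not at h2
    exact hw (Prod.ext h2.1 h2.2)
  by_cases h1 : u.2 ≠ 0 ∧ v.2 ≠ 0
  · refine ⟨(1, 0), ?_, ?_⟩
    · simpa [dt] using h1.1
    · simpa [dt] using h1.2
  by_cases h2 : u.1 ≠ 0 ∧ v.1 ≠ 0
  · refine ⟨(0, 1), ?_, ?_⟩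
    · simpa [dt] using h2.1
    · simpa [dt] using h2.2
  refine ⟨(1, 1), ?_, ?_⟩
  · have := h' u hu
    have := h' v hv
    simp only [dt, mul_one]
    by_cases h3 : u.2 = 0
    · rw [h3, sub_zero]; tauto
    · have : v.2 = 0 := by tauto
      have : u.1 = 0 := by tauto
      rw [this, zero_sub, neg_ne_zero]; exact h3
  · have := h' u hu
    have := h' v hv
    simp only [dt, mul_one]
    by_cases h3 : v.2 = 0
    · rw [h3, sub_zero]; tauto
    · have : u.2 = 0 := by tauto
      have : v.1 = 0 := by tauto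
      rw [this, zero_sub, neg_ne_zero]; exact h3

/-- Coordinates of `Q`: `T x` and `B x` are the rows of the matrix in `SL₂(F)` attached to `x ∉ E`. -/
structure Coord (δ : F → Q) (J : Q →* Q) (T B : Q → F × F) : Prop where
  two : (2 : F) ≠ 0
  add : ∀ a b, δ (a + b) = δ a * δ b
  inj : Function.Injective δ
  cen : ∀ a x, δ a * x = x * δ a
  J_δ : ∀ a, J (δ a) = δ a
  J_inv : ∀ x, ∃ a, J x = δ a * x⁻¹
  det : ∀ x, x ∉ Set.range δ → dt (T x) (B x) = 1
  ext : ∀ x y, x ∉ Set.range δ → y ∉ Set.range δ → T x = T y → B x = B y → x = y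
  surj : ∀ u v, dt u v = 1 → ∃ x, x ∉ Set.range δ ∧ T x = u ∧ B x = v
  T_mul : ∀ c x, x ∉ Set.range δ → T (δ c * x) = T x + c • B x
  B_mul : ∀ c x, x ∉ Set.range δ → B (δ c * x) = B x
  T_J : ∀ x, x ∉ Set.range δ → T (J x) = -T x
  B_J : ∀ x, x ∉ Set.range δ → B (J x) = -B x
  hom : ∀ l : F, l ≠ 0 → ∀ x, x ∉ Set.range δ → J x = x⁻¹ →
    ∃ y, y ∉ Set.range δ ∧ J y = y⁻¹ ∧ T y = l • T x ∧ B y = l⁻¹ • B x
  key : ∀ x y, x ∉ Set.range δ → y ∉ Set.range δ → T y = T x⁻¹ → x * y ≠ 1 →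
    x * y ∉ Set.range δ ∧ T (x * y) = T x

variable {δ : F → Q} {J : Q →* Q} {T B : Q → F × F}

theorem Coord.zero (H : Coord δ J T B) : δ 0 = 1 := by
  have := H.add 0 0
  rw [add_zero] at this
  exact left_eq_mul.mp this

theorem Coord.neg (H : Coord δ J T B) (c : F) : δ (-c) = (δ c)⁻¹ := by
  rw [eq_inv_iff_mul_eq_one, ← H.add, neg_add_cancel, H.zero]

theorem Coord.not_mem (H : Coord δ J T B) {x : Q} (hx : x ∉ Set.range δ) (c : F) :
    δ c * x ∉ Set.range δ := by
  rintro ⟨d, hd⟩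
  apply hx
  refine ⟨-c + d, ?_⟩
  rw [H.add, hd, H.neg, inv_mul_cancel_left]

theorem Coord.inv_not_mem (H : Coord δ J T B) {x : Q} (hx : x ∉ Set.range δ) : x⁻¹ ∉ Set.range δ := by
  rintro ⟨d, hd⟩
  apply hx
  exact ⟨-d, by rw [H.neg, hd, inv_inv]⟩

theorem Coord.one_mem (H : Coord δ J T B) : (1 : Q) ∈ Set.range δ := ⟨0, H.zero⟩

/-- `J x = δ (ζ x) * x⁻¹`. -/
noncomputable def zeta (δ : F → Q) (J : Q →* Q) (x : Q) : F :=
  open scoped Classical in if h : ∃ a, J x = δ a * x⁻¹ then h.choose else 0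

theorem Coord.zeta_spec (H : Coord δ J T B) (x : Q) : J x = δ (zeta δ J x) * x⁻¹ := by
  rw [zeta, dif_pos (H.J_inv x)]
  exact (H.J_inv x).choose_spec

theorem Coord.zeta_eq (H : Coord δ J T B) {x : Q} {a : F} (h : J x = δ a * x⁻¹) : zeta δ J x = a := by
  have := H.zeta_spec x
  rw [h] at this
  exact (H.inj (mul_right_cancel this)).symm

theorem Coord.zeta_mul (H : Coord δ J T B) (c : F) (x : Q) : zeta δ J (δ c * x) = 2 * c + zeta δ J x := by
  apply H.zeta_eq
  rw [map_mul, H.J_δ, H.zeta_spec x, two_mul, mul_inv_rev, H.add, H.add, ← H.neg, ← H.cen (-c) x⁻¹]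
  have h1 : δ c * δ (zeta δ J x) = δ (zeta δ J x) * δ c := H.cen _ _
  have h2 : δ c * δ (-c) = 1 := by rw [← H.add, add_neg_cancel, H.zero]
  calc δ c * (δ (zeta δ J x) * x⁻¹) = δ c * (δ (zeta δ J x) * (δ c * δ (-c)) * x⁻¹) := by rw [h2, mul_one]
    _ = δ c * (δ (zeta δ J x) * δ c) * (δ (-c) * x⁻¹) := by group
    _ = δ c * δ c * δ (zeta δ J x) * (δ (-c) * x⁻¹) := by rw [← h1]; group

theorem Coord.zeta_δ (H : Coord δ J T B) (c : F) : zeta δ J (δ c) = 2 * c := by
  have h := H.zeta_mul c 1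
  rw [mul_one] at h
  rw [h, H.zeta_eq (x := 1) (a := 0) (by rw [map_one, inv_one, mul_one, H.zero]), add_zero]

theorem Coord.zeta_inv (H : Coord δ J T B) (x : Q) : zeta δ J x⁻¹ = -zeta δ J x := by
  apply H.zeta_eq
  rw [map_inv, H.zeta_spec x, mul_inv_rev, inv_inv, ← H.neg, H.cen]

/-- The central coordinate. -/
noncomputable def Z (δ : F → Q) (J : Q →* Q) (x : Q) : F := zeta δ J x / 2

theorem Coord.Z_mul (H : Coord δ J T B) (c : F) (x : Q) : Z δ J (δ c * x) = c + Z δ J x := by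
  have := H.two
  rw [Z, H.zeta_mul, Z]
  field_simp

theorem Coord.Z_δ (H : Coord δ J T B) (c : F) : Z δ J (δ c) = c := by
  have := H.two
  rw [Z, H.zeta_δ]
  field_simp

theorem Coord.Z_inv (H : Coord δ J T B) (x : Q) : Z δ J x⁻¹ = -Z δ J x := by
  rw [Z, H.zeta_inv, Z, neg_div]

theorem Coord.Z_eq_zero (H : Coord δ J T B) {x : Q} (hx : J x = x⁻¹) : Z δ J x = 0 := by
  rw [Z, H.zeta_eq (a := 0) (by rw [hx, H.zero, one_mul]), zero_div]

theorem Coord.J_of_Z (H : Coord δ J T B) {x : Q} (hx : Z δ J x = 0) : J x = x⁻¹ := by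
  have h := H.zeta_spec x
  have h2 : zeta δ J x = 0 := by
    rw [Z, div_eq_zero_iff] at hx
    exact hx.resolve_right H.two
  rwa [h2, H.zero, one_mul] at h

theorem Coord.inv_eq (H : Coord δ J T B) (x : Q) : x⁻¹ = δ (-(2 * Z δ J x)) * J x := by
  have := H.two
  have h2 : 2 * Z δ J x = zeta δ J x := by rw [Z]; field_simp
  rw [H.zeta_spec x, h2, H.neg, inv_mul_cancel_left]

theorem Coord.J_not_mem (H : Coord δ J T B) {x : Q} (hx : x ∉ Set.range δ) : J x ∉ Set.range δ := by
  rw [H.zeta_spec x]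
  exact H.not_mem (H.inv_not_mem hx) _

theorem Coord.B_inv (H : Coord δ J T B) {x : Q} (hx : x ∉ Set.range δ) : B x⁻¹ = -B x := by
  rw [H.inv_eq x, H.B_mul _ _ (H.J_not_mem hx), H.B_J _ hx]

theorem Coord.T_inv (H : Coord δ J T B) {x : Q} (hx : x ∉ Set.range δ) :
    T x⁻¹ = -T x + (2 * Z δ J x) • B x := by
  rw [H.inv_eq x, H.T_mul _ _ (H.J_not_mem hx), H.B_J _ hx, H.T_J _ hx, neg_smul, smul_neg, neg_neg]

open scoped Classical in
/-- The reduced first row. -/
noncomputable def R (δ : F → Q) (J : Q →* Q) (T B : Q → F × F) (x : Q) : F × F :=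
  if x ∈ Set.range δ then 0 else T x - Z δ J x • B x

theorem R_mem {x : Q} (hx : x ∈ Set.range δ) : R δ J T B x = 0 := if_pos hx

theorem R_def {x : Q} (hx : x ∉ Set.range δ) : R δ J T B x = T x - Z δ J x • B x := if_neg hx

theorem T_eq {x : Q} (hx : x ∉ Set.range δ) : T x = R δ J T B x + Z δ J x • B x := by
  rw [R_def hx, sub_add_cancel]

theorem Coord.dt_R (H : Coord δ J T B) {x : Q} (hx : x ∉ Set.range δ) : dt (R δ J T B x) (B x) = 1 := by
  rw [R_def hx, dt_sub_left, dt_smul_left, dt_self, mul_zero, sub_zero, H.det x hx]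

theorem Coord.R_ne (H : Coord δ J T B) {x : Q} (hx : x ∉ Set.range δ) : R δ J T B x ≠ 0 := by
  intro h
  have := H.dt_R hx
  rw [h, dt_zero_left] at this
  exact zero_ne_one this

theorem Coord.B_ne (H : Coord δ J T B) {x : Q} (hx : x ∉ Set.range δ) : B x ≠ 0 := by
  intro h
  have := H.det x hx
  rw [h, dt_zero_right] at this
  exact zero_ne_one this

theorem Coord.R_mul_δ (H : Coord δ J T B) (c : F) (x : Q) : R δ J T B (δ c * x) = R δ J T B x := by
  by_cases hx : x ∈ Set.range δ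
  · obtain ⟨d, rfl⟩ := hx
    rw [R_mem ⟨d, rfl⟩, R_mem ⟨c + d, H.add c d⟩]
  · rw [R_def hx, R_def (H.not_mem hx c), H.T_mul _ _ hx, H.B_mul _ _ hx, H.Z_mul, add_smul]
    abel

theorem Coord.R_inv (H : Coord δ J T B) (x : Q) : R δ J T B x⁻¹ = -R δ J T B x := by
  by_cases hx : x ∈ Set.range δ
  · obtain ⟨d, rfl⟩ := hx
    rw [R_mem ⟨d, rfl⟩, R_mem ⟨-d, H.neg d⟩, neg_zero]
  · rw [R_def hx, R_def (H.inv_not_mem hx), H.T_inv hx, H.B_inv hx, H.Z_inv, two_mul, add_smul,
      neg_smul, smul_neg, neg_neg]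
    abel

/-- Elements with the same `B` differ by a central element. -/
theorem Coord.exists_eq (H : Coord δ J T B) {x y : Q} (hx : x ∉ Set.range δ) (hy : y ∉ Set.range δ)
    (h : B x = B y) : ∃ c, y = δ c * x := by
  have h1 : dt (B x) (T y - T x) = 0 := by
    have e1 := H.det x hx
    have e2 := H.det y hy
    rw [← h] at e2
    rw [dt_swap, dt_sub_left, e1, e2, sub_self, neg_zero]
  obtain ⟨c, hc⟩ := exists_smul (H.B_ne hx) h1
  refine ⟨c, H.ext _ _ hy (H.not_mem hx c) ?_ ?_⟩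
  · rw [H.T_mul _ _ hx, ← hc]; abel
  · rw [H.B_mul _ _ hx, h]

theorem Coord.R_eq_of_B (H : Coord δ J T B) {x y : Q} (hx : x ∉ Set.range δ) (hy : y ∉ Set.range δ)
    (h : B x = B y) : R δ J T B x = R δ J T B y := by
  obtain ⟨c, rfl⟩ := H.exists_eq hx hy h
  rw [H.R_mul_δ]

theorem Coord.exists_B (H : Coord δ J T B) {v : F × F} (hv : v ≠ 0) : ∃ x, x ∉ Set.range δ ∧ B x = v := by
  have h' : v.1 ≠ 0 ∨ v.2 ≠ 0 := by
    by_contra h2
    push Not at h2
    exact hv (Prod.ext h2.1 h2.2)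
  rcases h' with h1 | h1
  · obtain ⟨x, hx, -, h2⟩ := H.surj (0, -v.1⁻¹) v (by
      unfold dt; simp only; field_simp; ring)
    exact ⟨x, hx, h2⟩
  · obtain ⟨x, hx, -, h2⟩ := H.surj (v.2⁻¹, 0) v (by
      unfold dt; simp only; field_simp; ring)
    exact ⟨x, hx, h2⟩

/-- Scaling. -/
theorem Coord.exists_scale (H : Coord δ J T B) {l : F} (hl : l ≠ 0) {x : Q} (hx : x ∉ Set.range δ) :
    ∃ y, y ∉ Set.range δ ∧ Z δ J y = 0 ∧ R δ J T B y = l • R δ J T B x ∧ B y = l⁻¹ • B x := by
  let x' := δ (-Z δ J x) * x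
  have hx' : x' ∉ Set.range δ := H.not_mem hx _
  have hZ : Z δ J x' = 0 := by rw [H.Z_mul]; ring
  have hR : R δ J T B x' = R δ J T B x := H.R_mul_δ _ _
  have hB : B x' = B x := H.B_mul _ _ hx
  obtain ⟨y, hy, hJ, hT, hBy⟩ := H.hom l hl x' hx' (H.J_of_Z hZ)
  refine ⟨y, hy, H.Z_eq_zero hJ, ?_, by rw [hBy, hB]⟩
  rw [R_def hy, H.Z_eq_zero hJ, zero_smul, sub_zero, hT, ← hR, R_def hx', hZ, zero_smul, sub_zero]

/-- Parallel `B` implies parallel `R`. -/
theorem Coord.R_smul_of_B (H : Coord δ J T B) {x y : Q} (hx : x ∉ Set.range δ) (hy : y ∉ Set.range δ)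
    {l : F} (h : B y = l⁻¹ • B x) (hl : l ≠ 0) : R δ J T B y = l • R δ J T B x := by
  obtain ⟨w, hw, -, hR, hB⟩ := H.exists_scale hl hx
  rw [← hR]
  exact H.R_eq_of_B hy hw (by rw [h, hB])

/-- Commutator: `x y = δ (γ) y x`. -/
theorem Coord.comm (H : Coord δ J T B) (x y : Q) :
    x * y = δ (zeta δ J (x * y) - zeta δ J x - zeta δ J y) * (y * x) := by
  have h1 := H.zeta_spec (x * y)
  have h2 : J (x * y) = δ (zeta δ J x + zeta δ J y) * (y * x)⁻¹ := by
    rw [map_mul, H.zeta_spec x, H.zeta_spec y, H.add, mul_inv_rev]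
    have := H.cen (zeta δ J y) x⁻¹
    calc δ (zeta δ J x) * x⁻¹ * (δ (zeta δ J y) * y⁻¹) = δ (zeta δ J x) * (x⁻¹ * δ (zeta δ J y)) * y⁻¹ := by group
      _ = δ (zeta δ J x) * (δ (zeta δ J y) * x⁻¹) * y⁻¹ := by rw [this]
      _ = _ := by group
  rw [h2] at h1
  have h4 : (y * x)⁻¹ = δ (zeta δ J (x * y) - zeta δ J x - zeta δ J y) * (x * y)⁻¹ := by
    have : zeta δ J (x * y) - zeta δ J x - zeta δ J y = -(zeta δ J x + zeta δ J y) + zeta δ J (x * y) := by ring
    rw [this, H.add, mul_assoc, ← h1, H.neg, inv_mul_cancel_left]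
  have h5 : (x * y)⁻¹ = (δ (zeta δ J (x * y) - zeta δ J x - zeta δ J y))⁻¹ * (y * x)⁻¹ := by
    rw [h4, inv_mul_cancel_left]
  have h6 := congrArg (·⁻¹) h5
  simp only [inv_inv, mul_inv_rev] at h6
  exact h6.trans (H.cen _ _).symm

/-- The generic product formulas. -/
theorem Coord.generic (H : Coord δ J T B) {x y : Q} (hx : x ∉ Set.range δ) (hy : y ∉ Set.range δ)
    (hD : dt (B x) (B y) ≠ 0) :
    x * y ∉ Set.range δ ∧ R δ J T B (x * y) = R δ J T B x + R δ J T B y ∧
      Z δ J (x * y) = Z δ J x + Z δ J y - 2 * dt (R δ J T B x) (R δ J T B y) ∧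
      (dt (R δ J T B x) (B y) + dt (R δ J T B y) (B x) + 2 * dt (R δ J T B x) (B y) * dt (R δ J T B y) (B x)) •
        B (x * y) = dt (R δ J T B x) (B y) • B x + dt (R δ J T B y) (B x) • B y := by
  have h2 := H.two
  -- the key relation with parameters
  have main : ∀ x y : Q, x ∉ Set.range δ → y ∉ Set.range δ → dt (B x) (B y) ≠ 0 →
      x * y ∉ Set.range δ ∧
      R δ J T B (x * y) + (Z δ J (x * y) - Z δ J x - Z δ J y + (1 + dt (R δ J T B x) (B y)) / dt (B x) (B y) +
        (1 + dt (R δ J T B y) (B x)) / dt (B x) (B y)) • B (x * y) =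
      R δ J T B x + ((1 + dt (R δ J T B x) (B y)) / dt (B x) (B y)) • B x := by
    intro x y hx hy hD
    set D := dt (B x) (B y) with hDdef
    set A := dt (R δ J T B x) (B y) with hA
    set A' := dt (R δ J T B y) (B x) with hA'
    set z := (1 + A) / D with hz
    set w := (1 + A') / D with hw
    have hzD : z * D = 1 + A := by rw [hz]; field_simp
    have hwD : w * D = 1 + A' := by rw [hw]; field_simp
    set x₁ := δ (z - Z δ J x) * x with hx₁
    set y₁ := δ (w - Z δ J y) * y with hy₁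
    have mx : x₁ ∉ Set.range δ := H.not_mem hx _
    have my : y₁ ∉ Set.range δ := H.not_mem hy _
    have Zx : Z δ J x₁ = z := by rw [hx₁, H.Z_mul]; ring
    have Zy : Z δ J y₁ = w := by rw [hy₁, H.Z_mul]; ring
    have Bx : B x₁ = B x := H.B_mul _ _ hx
    have By : B y₁ = B y := H.B_mul _ _ hy
    have Rx : R δ J T B x₁ = R δ J T B x := H.R_mul_δ _ _
    have Ry : R δ J T B y₁ = R δ J T B y := H.R_mul_δ _ _
    have Tx : T x₁ = R δ J T B x + z • B x := by rw [T_eq (J := J) (T := T) (B := B) mx, Zx, Bx, Rx]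
    have Ty : T y₁ = R δ J T B y + w • B y := by rw [T_eq (J := J) (T := T) (B := B) my, Zy, By, Ry]
    have Tx' : T x₁⁻¹ = -R δ J T B x + z • B x := by
      rw [H.T_inv mx, Tx, Zx, Bx, two_mul, add_smul]; abel
    have e : T y₁ = T x₁⁻¹ := by
      rw [Ty, Tx']
      have e1 := H.dt_R hx
      have e2 := H.dt_R hy
      apply ext_dt hD
      · rw [dt_add_left, dt_add_left, dt_smul_left, dt_smul_left, dt_self, dt_neg_left, e1, ← hA',
          dt_swap (B x) (B y), ← hDdef]
        linear_combination -hwD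
      · rw [dt_add_left, dt_add_left, dt_smul_left, dt_smul_left, dt_self, dt_neg_left, e2, ← hA, ← hDdef]
        linear_combination -hzD
    have hne : x₁ * y₁ ≠ 1 := by
      intro h
      have h3 : y₁ = x₁⁻¹ := by rw [eq_inv_iff_mul_eq_one, ← inv_eq_iff_mul_eq_one.mpr h]; simp
      have h4 : B y = -B x := by rw [← By, h3, H.B_inv mx, Bx]
      apply hD
      rw [hDdef, h4, dt_neg_right, dt_self, neg_zero]
    obtain ⟨hm, hT⟩ := H.key x₁ y₁ mx my e hne
    have hprod : x₁ * y₁ = δ (z - Z δ J x + (w - Z δ J y)) * (x * y) := by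
      rw [H.add, hx₁, hy₁]
      have := H.cen (w - Z δ J y) x
      calc δ (z - Z δ J x) * x * (δ (w - Z δ J y) * y) = δ (z - Z δ J x) * (x * δ (w - Z δ J y)) * y := by group
        _ = δ (z - Z δ J x) * (δ (w - Z δ J y) * x) * y := by rw [this]
        _ = _ := by group
    have hmem : x * y ∉ Set.range δ := by
      intro h
      apply hm
      obtain ⟨c, hc⟩ := h
      rw [hprod, ← hc, ← H.add]
      exact ⟨_, rfl⟩
    refine ⟨hmem, ?_⟩
    rw [T_eq (J := J) (T := T) (B := B) hm, hprod, H.R_mul_δ, H.Z_mul, H.B_mul _ _ hmem, Tx] at hT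
    rw [← hT]
    congr 2
    ring
  obtain ⟨hmem, m1⟩ := main x y hx hy hD
  have hD' : dt (B y) (B x) ≠ 0 := by rw [dt_swap]; exact neg_ne_zero.mpr hD
  obtain ⟨hmem', m2⟩ := main y x hy hx hD'
  set γ := zeta δ J (x * y) - zeta δ J x - zeta δ J y with hγ
  have hcomm : x * y = δ γ * (y * x) := H.comm x y
  have hBc : B (y * x) = B (x * y) := by rw [hcomm, H.B_mul _ _ hmem']
  have hRc : R δ J T B (y * x) = R δ J T B (x * y) := by rw [hcomm, H.R_mul_δ]
  have hZc : Z δ J (x * y) = γ + Z δ J (y * x) := by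
    conv_lhs => rw [hcomm]
    rw [H.Z_mul]
  have hγZ : γ = 2 * (Z δ J (x * y) - Z δ J x - Z δ J y) := by
    rw [hγ, Z, Z, Z]; field_simp
  rw [hBc, hRc, dt_swap (B x) (B y)] at m2
  set D := dt (B x) (B y) with hDdef
  set A := dt (R δ J T B x) (B y) with hA
  set A' := dt (R δ J T B y) (B x) with hA'
  set p := B (x * y) with hp
  set z := (1 + A) / D with hz
  set w := (1 + A') / D with hw
  have hzD : z * D = 1 + A := by rw [hz]; field_simp
  have hwD : w * D = 1 + A' := by rw [hw]; field_simp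
  set m := Z δ J (x * y) - Z δ J x - Z δ J y + z + w with hm
  have m2' : R δ J T B (x * y) - m • p = R δ J T B y - w • B y := by
    have e1 : (1 + A') / -D = -w := by rw [hw, div_neg]
    have e2 : (1 + A) / -D = -z := by rw [hz, div_neg]
    rw [e1, e2] at m2
    have e3 : Z δ J (y * x) - Z δ J y - Z δ J x + -w + -z = -m := by
      rw [hm]; linear_combination -hZc - hγZ
    rw [e3, neg_smul, neg_smul] at m2
    rw [sub_eq_add_neg, m2, sub_eq_add_neg]
  have d1 := H.dt_R hx
  have d2 := H.dt_R hy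
  -- relation between rows
  have m3 : z • B x - w • B y = R δ J T B x + R δ J T B y := by
    apply ext_dt hD
    · rw [dt_sub_left, dt_smul_left, dt_smul_left, dt_self, dt_add_left, d1, ← hA', dt_swap (B x) (B y), ← hDdef]
      linear_combination hwD
    · rw [dt_sub_left, dt_smul_left, dt_smul_left, dt_self, dt_add_left, d2, ← hA, ← hDdef]
      linear_combination hzD
  have hR : R δ J T B (x * y) = R δ J T B x + R δ J T B y := by
    have h3 : (2 : F) • R δ J T B (x * y) = (2 : F) • (R δ J T B x + R δ J T B y) := by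
      rw [two_smul, two_smul]
      calc R δ J T B (x * y) + R δ J T B (x * y)
          = (R δ J T B (x * y) + m • p) + (R δ J T B (x * y) - m • p) := by abel
        _ = (R δ J T B x + z • B x) + (R δ J T B y - w • B y) := by rw [m1, m2']
        _ = (R δ J T B x + R δ J T B y) + (z • B x - w • B y) := by abel
        _ = _ := by rw [m3]
    exact smul_right_injective _ h2 h3
  have hmp : m • p = R δ J T B x + w • B y := by
    have h4 : m • p = R δ J T B x + z • B x - R δ J T B (x * y) := by rw [← m1]; abel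
    rw [h4, hR]
    have h5 : z • B x = w • B y + (R δ J T B x + R δ J T B y) := by rw [← m3]; abel
    rw [h5]; abel
  have hmD : (m * D) • p = A • B x + A' • B y := by
    rw [mul_comm, mul_smul, hmp]
    apply ext_dt hD
    · rw [dt_smul_left, dt_add_left, dt_smul_left, dt_add_left, dt_smul_left, dt_smul_left, dt_self, d1,
        dt_swap (B x) (B y), ← hDdef]
      linear_combination -D * hwD
    · rw [dt_smul_left, dt_add_left, dt_smul_left, dt_add_left, dt_smul_left, dt_smul_left, dt_self, ← hA,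
        ← hDdef]
      ring
  have hN : m * D = A + A' + 2 * A * A' := by
    have h6 := H.dt_R hmem
    rw [hR, ← hp] at h6
    have h7 : dt (R δ J T B x + R δ J T B y) ((m * D) • p) = m * D := by
      rw [dt_smul_right, h6, mul_one]
    rw [hmD, dt_add_right, dt_smul_right, dt_smul_right, dt_add_left, dt_add_left, d1, d2, ← hA, ← hA'] at h7
    rw [← h7]; ring
  refine ⟨hmem, hR, ?_, ?_⟩
  · -- the central coordinate
    have hid : dt (R δ J T B x) (R δ J T B y) * D = 1 - A * A' := by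
      have : dt (R δ J T B x) (R δ J T B y) * D = dt (R δ J T B x) (B x) * dt (R δ J T B y) (B y) -
          dt (R δ J T B x) (B y) * dt (R δ J T B y) (B x) := by
        rw [hDdef]; unfold dt; ring
      rw [this, d1, d2, ← hA, ← hA']; ring
    have h8 : (Z δ J (x * y) - (Z δ J x + Z δ J y - 2 * dt (R δ J T B x) (R δ J T B y))) * D = 0 := by
      have h9 : (Z δ J (x * y) - Z δ J x - Z δ J y) * D = m * D - z * D - w * D := by rw [hm]; ring
      linear_combination h9 + hN - hzD - hwD + 2 * hid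
    exact sub_eq_zero.mp ((mul_eq_zero.mp h8).resolve_right hD)
  · rw [← hN, hmD]

end Cfsg.Agent.UThreeOdd.Alg
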