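import Mathlib
import Cfsg.Agent.UThreeOdd.Alg

/-!
# Groups acting with a regular `SL₂(F)` off a block: coordinates

`RegAct a b Q φ`: `Q` fixes `a` and is regular on the other points; `φ : SL₂(F) →* G` sends the upper
unipotent matrices to a central subgroup `E` of `Q`, the torus to the stabiliser of `a` and `b`, the
antidiagonal matrix `NN` swaps `a` and `b`, `φ (-1)` inverts `Q / E`, and `SL₂(F)` is regular on the
points outside `{a} ∪ E • b`.
-/

set_option autoImplicit false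

namespace Cfsg.Agent.UThreeOdd.Act

open Cfsg.Agent.UThreeOdd.Alg Matrix

section Mat

variable {F : Type*} [Field F]

/-- The matrix `[1, z; 0, 1]`. -/
def UU (z : F) : SpecialLinearGroup (Fin 2) F := ⟨!![1, z; 0, 1], by simp⟩

/-- The matrix `[0, 1; -1, 0]`. -/
def NN (F : Type*) [Field F] : SpecialLinearGroup (Fin 2) F := ⟨!![0, 1; -1, 0], by simp⟩

/-- The matrix `[l, 0; 0, l⁻¹]`. -/
def DD (l : Fˣ) : SpecialLinearGroup (Fin 2) F := ⟨!![(l : F), 0; 0, ((l⁻¹ : Fˣ) : F)], by simp⟩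

/-- First row. -/
def top (A : SpecialLinearGroup (Fin 2) F) : F × F := (A.1 0 0, A.1 0 1)

/-- Second row. -/
def bot (A : SpecialLinearGroup (Fin 2) F) : F × F := (A.1 1 0, A.1 1 1)

theorem eq_of_rows {A B : SpecialLinearGroup (Fin 2) F} (h1 : top A = top B) (h2 : bot A = bot B) : A = B := by
  unfold top at h1
  unfold bot at h2
  apply Subtype.ext
  ext i j
  fin_cases i <;> fin_cases j
  · exact congrArg Prod.fst h1
  · exact congrArg Prod.snd h1
  · exact congrArg Prod.fst h2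
  · exact congrArg Prod.snd h2

theorem dt_rows (A : SpecialLinearGroup (Fin 2) F) : dt (top A) (bot A) = 1 := by
  have h := A.2
  rw [Matrix.det_fin_two] at h
  exact h

theorem exists_rows (u v : F × F) (h : dt u v = 1) : ∃ A : SpecialLinearGroup (Fin 2) F, top A = u ∧ bot A = v :=
  ⟨⟨!![u.1, u.2; v.1, v.2], by rw [Matrix.det_fin_two_of]; exact h⟩, rfl, rfl⟩

theorem top_UU (z : F) (A : SpecialLinearGroup (Fin 2) F) : top (UU z * A) = top A + z • bot A := by
  have : (UU z * A).1 = !![1, z; 0, 1] * A.1 := rfl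
  unfold top bot
  rw [this]
  ext <;> simp [Matrix.mul_apply, Fin.sum_univ_two]

theorem bot_UU (z : F) (A : SpecialLinearGroup (Fin 2) F) : bot (UU z * A) = bot A := by
  have : (UU z * A).1 = !![1, z; 0, 1] * A.1 := rfl
  unfold bot
  rw [this]
  ext <;> simp [Matrix.mul_apply, Fin.sum_univ_two]

theorem top_NN (A : SpecialLinearGroup (Fin 2) F) : top (NN F * A) = bot A := by
  have : (NN F * A).1 = !![0, 1; -1, 0] * A.1 := rfl
  unfold top bot
  rw [this]
  ext <;> simp [Matrix.mul_apply, Fin.sum_univ_two]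

theorem bot_NN (A : SpecialLinearGroup (Fin 2) F) : bot (NN F * A) = -top A := by
  have : (NN F * A).1 = !![0, 1; -1, 0] * A.1 := rfl
  unfold top bot
  rw [this]
  ext <;> simp [Matrix.mul_apply, Fin.sum_univ_two]

theorem top_DD (l : Fˣ) (A : SpecialLinearGroup (Fin 2) F) : top (DD l * A) = (l : F) • top A := by
  have : (DD l * A).1 = !![(l : F), 0; 0, ((l⁻¹ : Fˣ) : F)] * A.1 := rfl
  unfold top
  rw [this]
  ext <;> simp [Matrix.mul_apply, Fin.sum_univ_two]

theorem bot_DD (l : Fˣ) (A : SpecialLinearGroup (Fin 2) F) : bot (DD l * A) = (l : F)⁻¹ • bot A := by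
  have : (DD l * A).1 = !![(l : F), 0; 0, ((l⁻¹ : Fˣ) : F)] * A.1 := rfl
  unfold bot
  rw [this]
  ext <;> simp [Matrix.mul_apply, Fin.sum_univ_two]

theorem top_neg (A : SpecialLinearGroup (Fin 2) F) : top (-1 * A) = -top A := by
  rw [neg_one_mul]
  ext <;> simp [top]

theorem bot_neg (A : SpecialLinearGroup (Fin 2) F) : bot (-1 * A) = -bot A := by
  rw [neg_one_mul]
  ext <;> simp [bot]

theorem UU_add (x y : F) : UU (x + y) = UU x * UU y := by
  apply Subtype.ext
  have : (UU x * UU y).1 = !![1, x; 0, 1] * !![1, y; 0, 1] := rfl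
  rw [this]
  ext i j
  fin_cases i <;> fin_cases j <;> simp [UU, Matrix.mul_apply, Fin.sum_univ_two, add_comm]

theorem UU_injective : Function.Injective (UU : F → _) := by
  intro x y h
  have := congrArg (fun A : SpecialLinearGroup (Fin 2) F => A.1 0 1) h
  simpa [UU] using this

theorem NN_mul_NN : NN F * NN F = -1 := by
  apply Subtype.ext
  have : (NN F * NN F).1 = !![0, 1; -1, 0] * !![0, 1; -1, 0] := rfl
  rw [this]
  ext i j
  fin_cases i <;> fin_cases j <;> simp [Matrix.mul_apply, Fin.sum_univ_two]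

theorem DD_neg_one : DD (-1 : Fˣ) = -1 := by
  apply Subtype.ext
  ext i j
  fin_cases i <;> fin_cases j <;> simp [DD]

/-- `N U(z) = U(-1/z) D N U(-1/z) N⁻¹ ...`: we only need the decomposition below. -/
theorem NN_UU_NN {z : F} (hz : z ≠ 0) :
    NN F * UU z * NN F = UU (-z⁻¹) * DD (-(Units.mk0 z hz)⁻¹) * NN F * UU (-z⁻¹) := by
  apply Subtype.ext
  have h1 : (NN F * UU z * NN F).1 = !![0, 1; -1, 0] * !![1, z; 0, 1] * !![0, 1; -1, 0] := rfl
  have h2 : (UU (-z⁻¹) * DD (-(Units.mk0 z hz)⁻¹) * NN F * UU (-z⁻¹)).1 =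
    !![1, -z⁻¹; 0, 1] * !![((-(Units.mk0 z hz)⁻¹ : Fˣ) : F), 0; 0, (((-(Units.mk0 z hz)⁻¹)⁻¹ : Fˣ) : F)] *
      !![0, 1; -1, 0] * !![1, -z⁻¹; 0, 1] := rfl
  rw [h1, h2]
  ext i j
  fin_cases i <;> fin_cases j <;> simp [Matrix.mul_apply, Fin.sum_univ_two, hz]

/-- Bruhat decomposition in `SL₂`. -/
theorem bruhat (A : SpecialLinearGroup (Fin 2) F) :
    (∃ (l : Fˣ) (t : F), A = DD l * UU t) ∨ ∃ (s : F) (l : Fˣ) (t : F), A = UU s * (DD l * (NN F * UU t)) := by
  have hd := A.2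
  rw [Matrix.det_fin_two] at hd
  by_cases hc : A.1 1 0 = 0
  · left
    rw [hc, mul_zero, sub_zero] at hd
    have ha : A.1 0 0 ≠ 0 := left_ne_zero_of_mul_eq_one hd
    refine ⟨Units.mk0 _ ha, (A.1 0 0)⁻¹ * A.1 0 1, ?_⟩
    apply eq_of_rows
    · rw [top_DD]
      ext <;> simp [top, UU, ha]
    · rw [bot_DD]
      ext
      · simp [bot, UU, hc]
      · simp only [bot, UU, Units.val_mk0, Prod.smul_mk, smul_eq_mul]
        simp
        field_simp
        rw [mul_comm]; exact hd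
  · right
    refine ⟨A.1 0 0 / A.1 1 0, Units.mk0 (-(A.1 1 0)⁻¹) (neg_ne_zero.mpr (inv_ne_zero hc)), A.1 1 1 / A.1 1 0, ?_⟩
    apply eq_of_rows
    · rw [top_UU, top_DD, bot_DD, top_NN, bot_NN]
      ext
      · simp [top, bot, UU]
        field_simp
      · simp [top, bot, UU]
        field_simp
        linear_combination -hd
    · rw [bot_UU, bot_DD, bot_NN]
      ext
      · simp [top, bot, UU]
      · simp [top, bot, UU]
        field_simp

end Mat

/-- `SL₂(F)` regular off the block of `a` and `b`. -/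
structure RegAct {G Ω F : Type*} [Group G] [MulAction G Ω] [Field F] (a b : Ω) (Q : Subgroup G)
    (φ : SpecialLinearGroup (Fin 2) F →* G) : Prop where
  two : (2 : F) ≠ 0
  ne : b ≠ a
  Q_a : ∀ x ∈ Q, x • a = a
  Q_trans : ∀ c, c ≠ a → ∃ x ∈ Q, x • b = c
  Q_free : ∀ x ∈ Q, x • b = b → x = 1
  Q_norm : ∀ g : G, g • a = a → ∀ x ∈ Q, g * x * g⁻¹ ∈ Q
  U_mem : ∀ z, φ (UU z) ∈ Q
  U_comm : ∀ z, ∀ x ∈ Q, φ (UU z) * x = x * φ (UU z)
  inv : ∀ x ∈ Q, ∃ z, φ (-1) * x * (φ (-1))⁻¹ = φ (UU z) * x⁻¹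
  N_a : φ (NN F) • a = b
  N_b : φ (NN F) • b = a
  D_a : ∀ l : Fˣ, φ (DD l) • a = a
  D_b : ∀ l : Fˣ, φ (DD l) • b = b
  stab : ∀ g : G, g • a = a → g • b = b → ∀ z, ∃ z', g * φ (UU z) * g⁻¹ = φ (UU z')
  trans : ∀ x ∈ Q, ∀ y ∈ Q, (∀ z, x ≠ φ (UU z)) → (∀ z, y ≠ φ (UU z)) → ∃ A, φ A • x • b = y • b
  free : ∀ x ∈ Q, (∀ z, x ≠ φ (UU z)) → ∀ A, φ A • x • b = x • b → A = 1
  exists_not : ∃ x ∈ Q, ∀ z, x ≠ φ (UU z)

namespace RegAct

variable {G Ω F : Type*} [Group G] [MulAction G Ω] [Field F] {a b : Ω} {Q : Subgroup G}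
  {φ : SpecialLinearGroup (Fin 2) F →* G}

/-- The central subgroup. -/
def del (S : RegAct a b Q φ) (z : F) : Q := ⟨φ (UU z), S.U_mem z⟩

theorem coe_del (S : RegAct a b Q φ) (z : F) : (S.del z : G) = φ (UU z) := rfl

theorem not_mem_iff (S : RegAct a b Q φ) {x : Q} : x ∉ Set.range S.del ↔ ∀ z, (x : G) ≠ φ (UU z) := by
  constructor
  · intro h z hz
    exact h ⟨z, Subtype.ext hz.symm⟩
  · rintro h ⟨z, hz⟩
    exact h z (congrArg Subtype.val hz).symm

theorem j_a (S : RegAct a b Q φ) : φ (-1) • a = a := by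
  rw [← DD_neg_one]; exact S.D_a _

theorem j_b (S : RegAct a b Q φ) : φ (-1) • b = b := by
  rw [← DD_neg_one]; exact S.D_b _

/-- Conjugation by an element fixing `a`. -/
def cj (S : RegAct a b Q φ) (g : G) (hg : g • a = a) : Q →* Q where
  toFun x := ⟨g * x * g⁻¹, S.Q_norm g hg x x.2⟩
  map_one' := by apply Subtype.ext; simp
  map_mul' x y := by apply Subtype.ext; simp [mul_assoc]

theorem coe_cj (S : RegAct a b Q φ) (g : G) (hg : g • a = a) (x : Q) : (S.cj g hg x : G) = g * x * g⁻¹ := rfl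

/-- Conjugation by `φ (-1)`. -/
def J (S : RegAct a b Q φ) : Q →* Q := S.cj (φ (-1)) S.j_a

theorem coe_J (S : RegAct a b Q φ) (x : Q) : (S.J x : G) = φ (-1) * x * (φ (-1))⁻¹ := rfl

theorem smul_cj (S : RegAct a b Q φ) {g : G} (hg : g • a = a) (hb : g • b = b) (x : Q) :
    (S.cj g hg x : G) • b = g • (x : G) • b := by
  rw [coe_cj, mul_smul, mul_smul]
  congr 2
  rw [inv_smul_eq_iff, hb]

theorem smul_b_ne (S : RegAct a b Q φ) {x : G} (hx : x ∈ Q) : x • b ≠ a := by
  intro h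
  apply S.ne
  have := S.Q_a x hx
  rw [← this] at h
  exact smul_left_cancel x h

theorem smul_b_inj (S : RegAct a b Q φ) {x y : G} (hx : x ∈ Q) (hy : y ∈ Q) (h : x • b = y • b) : x = y := by
  have : y⁻¹ * x = 1 := by
    apply S.Q_free _ (Q.mul_mem (Q.inv_mem hy) hx)
    rw [mul_smul, h, inv_smul_smul]
  exact (inv_mul_eq_one.mp this).symm

theorem smul_b_inj' (S : RegAct a b Q φ) {x y : Q} (h : (x : G) • b = (y : G) • b) : x = y :=
  Subtype.ext (S.smul_b_inj x.2 y.2 h)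

theorem NN_inv_a (S : RegAct a b Q φ) : (φ (NN F))⁻¹ • a = b := by rw [inv_smul_eq_iff, S.N_b]
theorem NN_inv_b (S : RegAct a b Q φ) : (φ (NN F))⁻¹ • b = a := by rw [inv_smul_eq_iff, S.N_a]

theorem N_E (S : RegAct a b Q φ) {z : F} (hz : z ≠ 0) : φ (NN F) • φ (UU z) • b = φ (UU (-z⁻¹)) • b := by
  have h := NN_UU_NN hz
  have h1 : φ (NN F) • φ (UU z) • φ (NN F) • a = φ (UU (-z⁻¹)) • φ (DD (-(Units.mk0 z hz)⁻¹)) • φ (NN F) • φ (UU (-z⁻¹)) • a := by
    rw [← mul_smul, ← mul_smul, ← map_mul, ← map_mul, h, map_mul, map_mul, map_mul, mul_smul, mul_smul, mul_smul]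
  rwa [S.N_a, S.Q_a _ (S.U_mem _), S.N_a, S.D_b] at h1

/-- Elements of `Q` outside `E` are moved by `SL₂(F)` to such elements. -/
theorem exists_img (S : RegAct a b Q φ) {x : Q} (hx : x ∉ Set.range S.del) :
    ∃ y : Q, y ∉ Set.range S.del ∧ φ (NN F) • (x : G) • b = (y : G) • b := by
  have h1 : φ (NN F) • (x : G) • b ≠ a := by
    intro h
    apply hx
    refine ⟨0, ?_⟩
    have : (x : G) • b = b := by
      have h2 : (φ (NN F))⁻¹ • φ (NN F) • (x : G) • b = (φ (NN F))⁻¹ • a := by rw [h]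
      rwa [inv_smul_smul, S.NN_inv_a] at h2
    have h3 : x = 1 := Subtype.ext (S.Q_free _ x.2 this)
    rw [h3]
    apply Subtype.ext
    rw [coe_del]
    have : UU (0 : F) = 1 := by
      have := UU_add (0 : F) 0
      rw [add_zero] at this
      exact left_eq_mul.mp this
    rw [this, map_one]; rfl
  obtain ⟨y, hy, h2⟩ := S.Q_trans _ h1
  refine ⟨⟨y, hy⟩, ?_, h2.symm⟩
  rintro ⟨z, hz⟩
  have hz' : y = φ (UU z) := (congrArg Subtype.val hz).symm
  rw [hz'] at h2
  have h3 : (x : G) • b = (φ (NN F))⁻¹ • φ (UU z) • b := by rw [h2, inv_smul_smul]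
  by_cases hz0 : z = 0
  · have h4 : UU (0 : F) = 1 := by
      have := UU_add (0 : F) 0
      rw [add_zero] at this
      exact left_eq_mul.mp this
    rw [hz0, h4, map_one, one_smul, S.NN_inv_b] at h3
    exact S.smul_b_ne x.2 h3
  · have h5 := S.N_E (neg_ne_zero.mpr (inv_ne_zero hz0))
    have h6 : -(-z⁻¹)⁻¹ = z := by rw [inv_neg, inv_inv, neg_neg]
    rw [h6] at h5
    rw [← h5, inv_smul_smul] at h3
    exact hx ⟨-z⁻¹, Subtype.ext (S.smul_b_inj (S.U_mem _) x.2 h3.symm)⟩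

/-- The base point. -/
noncomputable def base (S : RegAct a b Q φ) : Q := ⟨S.exists_not.choose, S.exists_not.choose_spec.1⟩

theorem base_not_mem (S : RegAct a b Q φ) : S.base ∉ Set.range S.del :=
  S.not_mem_iff.mpr S.exists_not.choose_spec.2

open scoped Classical in
/-- The matrix of an element outside `E`. -/
noncomputable def mat (S : RegAct a b Q φ) (x : Q) : SpecialLinearGroup (Fin 2) F :=
  if h : ∃ A, φ A • (S.base : G) • b = (x : G) • b then h.choose else 1

theorem mat_spec (S : RegAct a b Q φ) {x : Q} (hx : x ∉ Set.range S.del) :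
    φ (S.mat x) • (S.base : G) • b = (x : G) • b := by
  have h := S.trans _ S.base.2 _ x.2 (S.not_mem_iff.mp S.base_not_mem) (S.not_mem_iff.mp hx)
  rw [mat, dif_pos h]
  exact h.choose_spec

theorem mat_eq (S : RegAct a b Q φ) {x : Q} (hx : x ∉ Set.range S.del) {A : SpecialLinearGroup (Fin 2) F}
    (h : φ A • (S.base : G) • b = (x : G) • b) : S.mat x = A := by
  have h1 := S.mat_spec hx
  have h2 : φ (A⁻¹ * S.mat x) • (S.base : G) • b = (S.base : G) • b := by
    rw [map_mul, mul_smul, h1, ← h, ← mul_smul, ← map_mul, inv_mul_cancel, map_one, one_smul]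
  have h3 := S.free _ S.base.2 (S.not_mem_iff.mp S.base_not_mem) _ h2
  exact (inv_mul_eq_one.mp h3).symm

/-- If `φ A` moves `x • b` to `y • b` then `mat y = A * mat x`. -/
theorem mat_mul (S : RegAct a b Q φ) {x y : Q} (hx : x ∉ Set.range S.del) (hy : y ∉ Set.range S.del)
    {A : SpecialLinearGroup (Fin 2) F} (h : φ A • (x : G) • b = (y : G) • b) : S.mat y = A * S.mat x := by
  apply S.mat_eq hy
  rw [map_mul, mul_smul, S.mat_spec hx, h]

theorem mat_inj (S : RegAct a b Q φ) {x y : Q} (hx : x ∉ Set.range S.del) (hy : y ∉ Set.range S.del)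
    (h : S.mat x = S.mat y) : x = y := by
  apply S.smul_b_inj'
  rw [← S.mat_spec hx, ← S.mat_spec hy, h]

theorem not_mem_of_smul (S : RegAct a b Q φ) {x y : Q} (hx : x ∉ Set.range S.del)
    (h : φ (NN F) • (x : G) • b = (y : G) • b) : y ∉ Set.range S.del := by
  obtain ⟨y', hy', h'⟩ := S.exists_img hx
  rw [h] at h'
  rwa [S.smul_b_inj' h']

theorem j_mul (S : RegAct a b Q φ) (x : Q) : ∃ z, S.J x = S.del z * x⁻¹ := by
  obtain ⟨z, hz⟩ := S.inv x x.2
  exact ⟨z, Subtype.ext hz⟩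

theorem del_add (S : RegAct a b Q φ) (x y : F) : S.del (x + y) = S.del x * S.del y := by
  apply Subtype.ext
  rw [Subgroup.coe_mul, coe_del, coe_del, coe_del, UU_add, map_mul]

theorem del_cen (S : RegAct a b Q φ) (z : F) (x : Q) : S.del z * x = x * S.del z :=
  Subtype.ext (S.U_comm z x x.2)

theorem del_not_mem (S : RegAct a b Q φ) {x : Q} (hx : x ∉ Set.range S.del) (z : F) :
    S.del z * x ∉ Set.range S.del := by
  rintro ⟨w, hw⟩
  apply hx
  refine ⟨-z + w, ?_⟩
  have h0 : S.del (-z) * S.del z = 1 := by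
    rw [← S.del_add, neg_add_cancel]
    have := S.del_add 0 0
    rw [add_zero] at this
    exact left_eq_mul.mp this
  rw [S.del_add, hw, ← mul_assoc, h0, one_mul]

theorem J_not_mem (S : RegAct a b Q φ) {x : Q} (hx : x ∉ Set.range S.del) : S.J x ∉ Set.range S.del := by
  obtain ⟨z, hz⟩ := S.j_mul x
  rw [hz]
  apply S.del_not_mem
  rintro ⟨w, hw⟩
  apply hx
  refine ⟨-w, ?_⟩
  have h0 : S.del (-w) * S.del w = 1 := by
    rw [← S.del_add, neg_add_cancel]
    have := S.del_add 0 0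
    rw [add_zero] at this
    exact left_eq_mul.mp this
  rw [eq_inv_of_mul_eq_one_left h0, hw, inv_inv]

/-- The structure of `n x n`. -/
theorem exists_form (S : RegAct a b Q φ) (x : Q) (hx : x ≠ 1) : ∃ f g : Q, ∃ h : G, h • a = a ∧ h • b = b ∧
    φ (NN F) * x * φ (NN F) = f * h * φ (NN F) * g ∧ φ (NN F) • (x : G) • b = (f : G) • b := by
  have h1 : φ (NN F) • (x : G) • b ≠ a := by
    intro h
    apply hx
    have h2 : (φ (NN F))⁻¹ • φ (NN F) • (x : G) • b = (φ (NN F))⁻¹ • a := by rw [h]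
    rw [inv_smul_smul, S.NN_inv_a] at h2
    exact Subtype.ext (S.Q_free _ x.2 h2)
  obtain ⟨f, hf, h2⟩ := S.Q_trans _ h1
  set n := φ (NN F) with hn
  set p := n⁻¹ * f⁻¹ * n * x * n with hp
  have hpa : p • a = a := by
    rw [hp, mul_smul, S.N_a, mul_smul, mul_smul, mul_smul, ← h2, inv_smul_smul]
    exact S.NN_inv_b
  have h3 : p⁻¹ • b ≠ a := by
    intro h
    have h4 : p • a = b := by rw [← h, smul_inv_smul]
    rw [hpa] at h4
    exact S.ne h4.symm
  obtain ⟨y, hy, h4⟩ := S.Q_trans _ h3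
  -- `k = p y` fixes `a` and `b`
  have hka : (p * y) • a = a := by rw [mul_smul, S.Q_a y hy, hpa]
  have hkb : (p * y) • b = b := by rw [mul_smul, h4, smul_inv_smul]
  refine ⟨⟨f, hf⟩, ⟨y⁻¹, Q.inv_mem hy⟩, n * (p * y) * n⁻¹, ?_, ?_, ?_, h2.symm⟩
  · rw [mul_smul, mul_smul, S.NN_inv_a, hkb, S.N_b]
  · rw [mul_smul, mul_smul, S.NN_inv_b, hka, S.N_a]
  · show n * (x : G) * n = f * (n * (p * y) * n⁻¹) * n * y⁻¹
    rw [hp]
    group

/-- The key relation on the level of points: if `f(y)` and the right factor of `n x n` agree modulo `E` up to `j`. -/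
theorem key (S : RegAct a b Q φ) {x y : Q} (hx : x ∉ Set.range S.del) (hy : y ∉ Set.range S.del)
    (h : bot (NN F * S.mat y) = bot (NN F * S.mat x⁻¹)) (hne : x * y ≠ 1) :
    x * y ∉ Set.range S.del ∧ bot (NN F * S.mat (x * y)) = bot (NN F * S.mat x) := by
  have hinv : ∀ {u : Q}, u ∉ Set.range S.del → u⁻¹ ∉ Set.range S.del := by
    rintro u hu ⟨w, hw⟩
    apply hu
    refine ⟨-w, ?_⟩
    have h0 : S.del (-w) * S.del w = 1 := by
      rw [← S.del_add, neg_add_cancel]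
      have := S.del_add 0 0
      rw [add_zero] at this
      exact left_eq_mul.mp this
    rw [eq_inv_of_mul_eq_one_left h0, hw, inv_inv]
  have hBcoset : ∀ {u v : Q}, u ∉ Set.range S.del → v ∉ Set.range S.del → bot (S.mat u) = bot (S.mat v) →
      ∃ z, v = S.del z * u := by
    intro u v hu hv huv
    have d1 := dt_rows (S.mat u)
    have d2 := dt_rows (S.mat v)
    have h1 : dt (bot (S.mat u)) (top (S.mat v) - top (S.mat u)) = 0 := by
      rw [dt_swap, dt_sub_left, d1, huv, d2, sub_self, neg_zero]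
    have hne : bot (S.mat u) ≠ 0 := by
      intro h0
      rw [h0, dt_zero_right] at d1
      exact zero_ne_one d1
    obtain ⟨c, hc⟩ := exists_smul hne h1
    refine ⟨c, S.mat_inj hv (S.del_not_mem hu c) ?_⟩
    have h3 : S.mat (S.del c * u) = UU c * S.mat u := by
      apply S.mat_mul hu (S.del_not_mem hu c)
      rw [Subgroup.coe_mul, mul_smul, coe_del]
    rw [h3]
    apply eq_of_rows
    · rw [top_UU, ← hc]; abel
    · rw [bot_UU, huv]
  have hBcoset' : ∀ {u : Q} (z : F), u ∉ Set.range S.del → bot (S.mat (S.del z * u)) = bot (S.mat u) := by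
    intro u z hu
    have h3 : S.mat (S.del z * u) = UU z * S.mat u := by
      apply S.mat_mul hu (S.del_not_mem hu z)
      rw [Subgroup.coe_mul, mul_smul, coe_del]
    rw [h3, bot_UU]
  have hx1 : x ≠ 1 := by
    rintro rfl
    apply hx
    refine ⟨0, ?_⟩
    have := S.del_add 0 0
    rw [add_zero] at this
    exact left_eq_mul.mp this
  obtain ⟨f, g, k, hka, hkb, hnxn, hf⟩ := S.exists_form x hx1
  have hf' : f ∉ Set.range S.del := S.not_mem_of_smul hx hf
  obtain ⟨fy, hfy, hfy'⟩ := S.exists_img hy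
  obtain ⟨fx, hfx, hfx'⟩ := S.exists_img (hinv hx)
  set n := φ (NN F) with hn
  have hnn : n * n = φ (-1) := by rw [hn, ← map_mul, NN_mul_NN]
  have hjj : φ (-1 : SpecialLinearGroup (Fin 2) F) * φ (-1) = 1 := by
    rw [← map_mul]
    have : (-1 : SpecialLinearGroup (Fin 2) F) * -1 = 1 := by rw [neg_mul_neg, one_mul]
    rw [this, map_one]
  have hninv : n⁻¹ = φ (-1) * n := by
    rw [inv_eq_iff_mul_eq_one]
    have h4 : n * φ (-1) = φ (-1) * n := by rw [← hnn, mul_assoc]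
    rw [← mul_assoc, h4, mul_assoc, hnn, hjj]
  have hfy2 : φ (NN F) • (y : G) • b = (fy : G) • b := hfy'
  have my : S.mat fy = NN F * S.mat y := S.mat_mul hy hfy hfy2
  have mx' : S.mat fx = NN F * S.mat x⁻¹ := S.mat_mul (hinv hx) hfx hfx'
  have mf : S.mat f = NN F * S.mat x := S.mat_mul hx hf' hf
  -- `fx = z fy`
  rw [← my, ← mx'] at h
  obtain ⟨z, hz⟩ := hBcoset hfx hfy h.symm
  -- `g⁻¹ = J fx`
  have hg : g⁻¹ = S.J fx := by
    apply S.smul_b_inj'
    have e1 : n⁻¹ * (x : G)⁻¹ * n⁻¹ = (g : G)⁻¹ * n⁻¹ * k⁻¹ * (f : G)⁻¹ := by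
      have := congrArg (·⁻¹) hnxn
      simp only [_root_.mul_inv_rev] at this
      rw [mul_assoc, this]
      group
    have e2 : (n⁻¹ * (x : G)⁻¹ * n⁻¹) • a = ((g : G)⁻¹ * n⁻¹ * k⁻¹ * (f : G)⁻¹) • a := by rw [e1]
    have e3 : (f : G)⁻¹ • a = a := by rw [inv_smul_eq_iff]; exact (S.Q_a _ f.2).symm
    have e4 : k⁻¹ • a = a := by rw [inv_smul_eq_iff, hka]
    rw [mul_smul, mul_smul, mul_smul, mul_smul, mul_smul, e3, e4, S.NN_inv_a] at e2
    have e5 : (S.J fx : G) • b = φ (-1) • (fx : G) • b := S.smul_cj _ S.j_b _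
    rw [e5, ← hfx', Subgroup.coe_inv, Subgroup.coe_inv, ← e2, hninv, mul_smul]
  -- the product
  have hJz : S.J (S.del z) = S.del z := by
    apply Subtype.ext
    rw [coe_J, coe_del, ← map_inv, ← map_mul, ← map_mul]
    congr 1
    rw [neg_one_mul, neg_mul, inv_neg, mul_neg, neg_neg, inv_one, mul_one]
  have hw : g * S.J fy = S.del z := by
    rw [hz, map_mul, hJz, ← hg, S.del_cen, mul_inv_cancel_left]
  have hz0 : z ≠ 0 := by
    rintro rfl
    have h0 : S.del 0 = 1 := by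
      have := S.del_add 0 0
      rw [add_zero] at this
      exact left_eq_mul.mp this
    rw [h0, one_mul] at hz
    apply hne
    have : φ (NN F) • (y : G) • b = φ (NN F) • ((x⁻¹ : Q) : G) • b := by rw [hfy2, hz]; exact hfx'.symm
    have := smul_left_cancel _ this
    rw [S.smul_b_inj' this, mul_inv_cancel]
  obtain ⟨z', hz'⟩ := S.stab k hka hkb (-z⁻¹)
  have hfin : φ (NN F) • ((x * y : Q) : G) • b = ((f * S.del z' : Q) : G) • b := by
    have e1 : φ (NN F) • ((x * y : Q) : G) • b = (n * x * n) • n⁻¹ • (y : G) • b := by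
      rw [Subgroup.coe_mul, ← mul_smul, ← mul_smul, ← mul_smul]
      congr 1
      rw [← hn]; group
    have e2 : n⁻¹ • (y : G) • b = (S.J fy : G) • b := by
      have e5 : (S.J fy : G) • b = φ (-1) • (fy : G) • b := S.smul_cj _ S.j_b _
      rw [e5, ← hfy', hninv, mul_smul]
    rw [e1, e2, hnxn, mul_smul, ← mul_smul (g : G), ← Subgroup.coe_mul, hw, coe_del, mul_smul,
      S.N_E hz0, mul_smul, Subgroup.coe_mul, mul_smul, coe_del, ← hz', mul_smul, mul_smul]
    congr 2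
    have : k⁻¹ • b = b := by rw [inv_smul_eq_iff, hkb]
    rw [this]
  have hfz : f * S.del z' = S.del z' * f := (S.del_cen _ _).symm
  have hmem : x * y ∉ Set.range S.del := by
    rintro ⟨w, hw'⟩
    have h5 : f * S.del z' ∉ Set.range S.del := by rw [hfz]; exact S.del_not_mem hf' _
    rw [← hw', coe_del] at hfin
    by_cases hw0 : w = 0
    · have h4 : UU (0 : F) = 1 := by
        have := UU_add (0 : F) 0
        rw [add_zero] at this
        exact left_eq_mul.mp this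
      rw [hw0, h4, map_one, one_smul, S.N_b] at hfin
      exact S.smul_b_ne (f * S.del z').2 hfin.symm
    · rw [S.N_E hw0] at hfin
      exact h5 ⟨_, S.smul_b_inj' (x := S.del (-w⁻¹)) hfin⟩
  refine ⟨hmem, ?_⟩
  have m3 : S.mat (f * S.del z') = NN F * S.mat (x * y) :=
    S.mat_mul hmem (by rw [hfz]; exact S.del_not_mem hf' _) hfin
  rw [← m3, hfz, hBcoset' z' hf', mf]

theorem del_zero (S : RegAct a b Q φ) : S.del 0 = 1 := by
  have := S.del_add 0 0
  rw [add_zero] at this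
  exact left_eq_mul.mp this

theorem cj_not_mem (S : RegAct a b Q φ) {g : G} (hg : g • a = a) (hb : g • b = b) {x : Q}
    (hx : x ∉ Set.range S.del) : S.cj g hg x ∉ Set.range S.del := by
  rintro ⟨z, hz⟩
  apply hx
  have h1 : g * (x : G) * g⁻¹ = φ (UU z) := (congrArg Subtype.val hz).symm
  obtain ⟨z', hz'⟩ := S.stab g⁻¹ (by rw [inv_smul_eq_iff, hg]) (by rw [inv_smul_eq_iff, hb]) z
  refine ⟨z', Subtype.ext ?_⟩
  rw [coe_del, ← hz', ← h1]
  group

/-- `SL₂(F)` preserves the set of points outside the block. -/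
theorem exists_img' (S : RegAct a b Q φ) (A : SpecialLinearGroup (Fin 2) F) {x : Q}
    (hx : x ∉ Set.range S.del) : ∃ y : Q, y ∉ Set.range S.del ∧ φ A • (x : G) • b = (y : G) • b := by
  have hU : ∀ (z : F) {x : Q}, x ∉ Set.range S.del →
      ∃ y : Q, y ∉ Set.range S.del ∧ φ (UU z) • (x : G) • b = (y : G) • b := by
    intro z x hx
    exact ⟨S.del z * x, S.del_not_mem hx z, by rw [Subgroup.coe_mul, mul_smul, coe_del]⟩
  have hD : ∀ (l : Fˣ) {x : Q}, x ∉ Set.range S.del →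
      ∃ y : Q, y ∉ Set.range S.del ∧ φ (DD l) • (x : G) • b = (y : G) • b := by
    intro l x hx
    exact ⟨S.cj (φ (DD l)) (S.D_a l) x, S.cj_not_mem (S.D_a l) (S.D_b l) hx, (S.smul_cj (S.D_a l) (S.D_b l) x).symm⟩
  rcases bruhat A with ⟨l, t, rfl⟩ | ⟨s, l, t, rfl⟩
  · obtain ⟨y, hy, e1⟩ := hU t hx
    obtain ⟨w, hw, e2⟩ := hD l hy
    exact ⟨w, hw, by rw [map_mul, mul_smul, e1, e2]⟩
  · obtain ⟨y, hy, e1⟩ := hU t hx
    obtain ⟨w, hw, e2⟩ := S.exists_img hy
    obtain ⟨v, hv, e3⟩ := hD l hw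
    obtain ⟨u, hu, e4⟩ := hU s hv
    exact ⟨u, hu, by rw [map_mul, map_mul, map_mul, mul_smul, mul_smul, mul_smul, e1, e2, e3, e4]⟩

/-- First row of the matrix. -/
noncomputable def T (S : RegAct a b Q φ) (x : Q) : F × F := top (S.mat x)

/-- Second row of the matrix. -/
noncomputable def B (S : RegAct a b Q φ) (x : Q) : F × F := bot (S.mat x)

theorem coord (S : RegAct a b Q φ) : Coord S.del S.J S.T S.B where
  two := S.two
  add := S.del_add
  inj := by
    intro x y h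
    have h1 : φ (UU x) = φ (UU y) := congrArg Subtype.val h
    have h2 : φ ((UU y)⁻¹ * UU x) • (S.base : G) • b = (S.base : G) • b := by
      rw [map_mul, map_inv, h1, inv_mul_cancel, one_smul]
    have h3 := S.free _ S.base.2 (S.not_mem_iff.mp S.base_not_mem) _ h2
    exact UU_injective (inv_mul_eq_one.mp h3).symm
  cen := S.del_cen
  J_δ := by
    intro z
    apply Subtype.ext
    rw [coe_J, coe_del, ← map_inv, ← map_mul, ← map_mul]
    congr 1
    rw [neg_one_mul, neg_mul, inv_neg, mul_neg, neg_neg, inv_one, mul_one]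
  J_inv := S.j_mul
  det x _ := dt_rows _
  ext x y hx hy h1 h2 := S.mat_inj hx hy (eq_of_rows h1 h2)
  surj := by
    intro u v huv
    obtain ⟨A, h1, h2⟩ := exists_rows u v huv
    obtain ⟨y, hy, h3⟩ := S.exists_img' A S.base_not_mem
    have h4 : S.mat y = A := S.mat_eq hy h3
    exact ⟨y, hy, by rw [T, h4, h1], by rw [B, h4, h2]⟩
  T_mul := by
    intro c x hx
    have h3 : S.mat (S.del c * x) = UU c * S.mat x := by
      apply S.mat_mul hx (S.del_not_mem hx c)
      rw [Subgroup.coe_mul, mul_smul, coe_del]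
    rw [T, h3, top_UU]; rfl
  B_mul := by
    intro c x hx
    have h3 : S.mat (S.del c * x) = UU c * S.mat x := by
      apply S.mat_mul hx (S.del_not_mem hx c)
      rw [Subgroup.coe_mul, mul_smul, coe_del]
    rw [B, h3, bot_UU]; rfl
  T_J := by
    intro x hx
    have h3 : S.mat (S.J x) = -1 * S.mat x := S.mat_mul hx (S.J_not_mem hx) (S.smul_cj S.j_a S.j_b x).symm
    rw [T, h3, top_neg]; rfl
  B_J := by
    intro x hx
    have h3 : S.mat (S.J x) = -1 * S.mat x := S.mat_mul hx (S.J_not_mem hx) (S.smul_cj S.j_a S.j_b x).symm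
    rw [B, h3, bot_neg]; rfl
  hom := by
    intro l hl x hx hJ
    have hy := S.cj_not_mem (S.D_a (Units.mk0 l hl)) (S.D_b (Units.mk0 l hl)) hx
    have h3 : S.mat (S.cj (φ (DD (Units.mk0 l hl))) (S.D_a _) x) = DD (Units.mk0 l hl) * S.mat x :=
      S.mat_mul hx hy (S.smul_cj (S.D_a _) (S.D_b _) x).symm
    refine ⟨S.cj (φ (DD (Units.mk0 l hl))) (S.D_a _) x, hy, ?_, ?_, ?_⟩
    · have h4 : φ (-1) * φ (DD (Units.mk0 l hl)) = φ (DD (Units.mk0 l hl)) * φ (-1) := by
        rw [← map_mul, ← map_mul, neg_one_mul, mul_neg_one]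
      have h5 : φ (-1) * (x : G) * (φ (-1))⁻¹ = (x : G)⁻¹ := congrArg Subtype.val hJ
      apply Subtype.ext
      rw [coe_J, Subgroup.coe_inv, coe_cj]
      calc φ (-1) * (φ (DD (Units.mk0 l hl)) * x * (φ (DD (Units.mk0 l hl)))⁻¹) * (φ (-1))⁻¹
          = (φ (-1) * φ (DD (Units.mk0 l hl))) * x * (φ (-1) * φ (DD (Units.mk0 l hl)))⁻¹ := by group
        _ = φ (DD (Units.mk0 l hl)) * (φ (-1) * x * (φ (-1))⁻¹) * (φ (DD (Units.mk0 l hl)))⁻¹ := by
            rw [h4]; group
        _ = _ := by rw [h5]; group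
    · rw [T, h3, top_DD]; rfl
    · rw [B, h3, bot_DD]; rfl
  key := by
    intro x y hx hy h hne
    have hx' : x⁻¹ ∉ Set.range S.del := by
      rintro ⟨w, hw⟩
      apply hx
      refine ⟨-w, ?_⟩
      have h0 : S.del (-w) * S.del w = 1 := by
        rw [← S.del_add, neg_add_cancel, S.del_zero]
      rw [eq_inv_of_mul_eq_one_left h0, hw, inv_inv]
    obtain ⟨h1, h2⟩ := S.key hx hy (by rw [bot_NN, bot_NN]; exact congrArg Neg.neg h) hne
    rw [bot_NN, bot_NN] at h2
    exact ⟨h1, neg_injective h2⟩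

theorem T_B_of_N (S : RegAct a b Q φ) {x y : Q} (hx : x ∉ Set.range S.del) (hy : y ∉ Set.range S.del)
    (h : φ (NN F) • (x : G) • b = (y : G) • b) : S.T y = S.B x ∧ S.B y = -S.T x := by
  have h3 : S.mat y = NN F * S.mat x := S.mat_mul hx hy h
  exact ⟨by rw [T, h3, top_NN]; rfl, by rw [B, h3, bot_NN]; rfl⟩

end RegAct

end Cfsg.Agent.UThreeOdd.Act
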