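import Mathlib
import Cfsg.Agent.UThreeOdd.Alg

/-!
# The reduced first row is a homomorphism, and the linear map behind it
-/

set_option autoImplicit false

namespace Cfsg.Agent.UThreeOdd.Alg2

open Cfsg.Agent.UThreeOdd.Alg

variable {F : Type*} [Field F] {Q : Type*} [Group Q] {δ : F → Q} {J : Q →* Q} {T B : Q → F × F}

theorem smul_ne {l : F} (hl : l ≠ 0) {v : F × F} (hv : v ≠ 0) : l • v ≠ 0 := smul_ne_zero hl hv

theorem par (H : Coord δ J T B) {x y : Q} (hx : x ∉ Set.range δ) (hy : y ∉ Set.range δ)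
    (h : dt (B x) (B y) = 0) : dt (R δ J T B x) (R δ J T B y) = 0 := by
  obtain ⟨c, hc⟩ := exists_smul (H.B_ne hx) h
  have hc0 : c ≠ 0 := by
    rintro rfl
    rw [zero_smul] at hc
    exact H.B_ne hy hc
  rw [H.R_smul_of_B hx hy (l := c⁻¹) (by rw [inv_inv, hc]) (inv_ne_zero hc0), dt_smul_right, dt_self, mul_zero]

theorem par' (H : Coord δ J T B) {x y : Q} (hx : x ∉ Set.range δ) (hy : y ∉ Set.range δ)
    (h : dt (R δ J T B x) (R δ J T B y) = 0) : dt (B x) (B y) = 0 := by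
  by_contra hD
  obtain ⟨c, hc⟩ := exists_smul (H.R_ne hx) h
  have hc0 : c ≠ 0 := by
    rintro rfl
    rw [zero_smul] at hc
    exact H.R_ne hy hc
  obtain ⟨w, hw, -, hR, hB⟩ := H.exists_scale hc0 hx
  have hw' := H.inv_not_mem hw
  have hD' : dt (B w⁻¹) (B y) ≠ 0 := by
    rw [H.B_inv hw, hB, dt_neg_left, dt_smul_left]
    exact neg_ne_zero.mpr (mul_ne_zero (inv_ne_zero hc0) hD)
  obtain ⟨hm, hR2, -, -⟩ := H.generic hw' hy hD'
  apply H.R_ne hm
  rw [hR2, H.R_inv, hR, hc, neg_add_cancel]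

theorem B_smul_of_R (H : Coord δ J T B) {x y : Q} (hx : x ∉ Set.range δ) (hy : y ∉ Set.range δ)
    {l : F} (hl : l ≠ 0) (h : R δ J T B y = l • R δ J T B x) : B y = l⁻¹ • B x := by
  obtain ⟨w, hw, -, hR, hB⟩ := H.exists_scale hl hx
  rw [← hB]
  have h1 : dt (B w) (B y) = 0 := par' H hw hy (by rw [hR, h, dt_self])
  obtain ⟨c, hc⟩ := exists_smul (H.B_ne hw) h1
  have hc0 : c ≠ 0 := by
    rintro rfl
    rw [zero_smul] at hc
    exact H.B_ne hy hc
  have h2 := H.R_smul_of_B hw hy (l := c⁻¹) (by rw [inv_inv, hc]) (inv_ne_zero hc0)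
  rw [h, ← hR] at h2
  have h3 : (1 - c⁻¹) • R δ J T B w = 0 := by rw [sub_smul, one_smul, ← h2, sub_self]
  rcases smul_eq_zero.mp h3 with h4 | h4
  · have : c = 1 := by
      have : c⁻¹ = 1 := (sub_eq_zero.mp h4).symm
      exact inv_eq_one.mp this
    rw [hc, this, one_smul]
  · exact absurd h4 (H.R_ne hw)

/-- `R` and `Z` on all products. -/
theorem RZ_mul (H : Coord δ J T B) (x y : Q) :
    R δ J T B (x * y) = R δ J T B x + R δ J T B y ∧
      Z δ J (x * y) = Z δ J x + Z δ J y - 2 * dt (R δ J T B x) (R δ J T B y) := by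
  by_cases hx : x ∈ Set.range δ
  · obtain ⟨c, rfl⟩ := hx
    rw [H.R_mul_δ, R_mem ⟨c, rfl⟩, zero_add, dt_zero_left, H.Z_mul, H.Z_δ]
    exact ⟨rfl, by ring⟩
  by_cases hy : y ∈ Set.range δ
  · obtain ⟨c, rfl⟩ := hy
    rw [← H.cen, H.R_mul_δ, R_mem ⟨c, rfl⟩, add_zero, dt_zero_right, H.Z_mul, H.Z_δ]
    exact ⟨rfl, by ring⟩
  by_cases hD : dt (B x) (B y) = 0
  · -- parallel case
    obtain ⟨c, hc⟩ := exists_smul (H.B_ne hx) hD
    have hc0 : c ≠ 0 := by
      rintro rfl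
      rw [zero_smul] at hc
      exact H.B_ne hy hc
    have main : ∀ w, w ∉ Set.range δ → dt (B x) (B w) ≠ 0 →
        (R δ J T B (x * y * w) = R δ J T B x + R δ J T B y + R δ J T B w ∧
        Z δ J (x * y * w) = Z δ J x + Z δ J y + Z δ J w - 2 * dt (R δ J T B y) (R δ J T B w) -
          2 * dt (R δ J T B x) (R δ J T B y + R δ J T B w)) := by
      intro w hw hxw
      have hyw : dt (B y) (B w) ≠ 0 := by
        rw [hc, dt_smul_left]; exact mul_ne_zero hc0 hxw
      obtain ⟨m1, m2, m3, -⟩ := H.generic hy hw hyw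
      have h5 : dt (B x) (B (y * w)) ≠ 0 := by
        intro h6
        have h7 := par H hx m1 h6
        rw [m2, dt_add_right, par H hx hy hD, zero_add] at h7
        exact hxw (par' H hx hw h7)
      obtain ⟨-, n2, n3, -⟩ := H.generic hx m1 h5
      rw [mul_assoc, n2, n3, m2, m3]
      exact ⟨by rw [add_assoc], by ring⟩
    by_cases hxy : x * y ∈ Set.range δ
    · obtain ⟨e, he⟩ := hxy
      obtain ⟨t, ht, -⟩ := exists_indep (H.B_ne hx) (H.B_ne hx)
      have ht0 : t ≠ 0 := by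
        rintro rfl
        rw [dt_zero_right] at ht
        exact ht rfl
      obtain ⟨w, hw, hBw⟩ := H.exists_B ht0
      obtain ⟨m1, m2⟩ := main w hw (by rw [hBw]; exact ht)
      rw [← he, H.R_mul_δ] at m1
      rw [← he, H.Z_mul] at m2
      rw [← he, R_mem ⟨e, rfl⟩, H.Z_δ]
      have h8 : R δ J T B x + R δ J T B y = 0 := by
        have := m1
        exact (right_eq_add.mp this)
      refine ⟨h8.symm, ?_⟩
      have h9 : dt (R δ J T B x) (R δ J T B w) + dt (R δ J T B y) (R δ J T B w) = 0 := by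
        rw [← dt_add_left, h8, dt_zero_left]
      rw [dt_add_right] at m2
      linear_combination m2 - 2 * h9
    · obtain ⟨t, ht1, ht2⟩ := exists_indep (H.B_ne hx) (H.B_ne hxy)
      have ht0 : t ≠ 0 := by
        rintro rfl
        rw [dt_zero_right] at ht1
        exact ht1 rfl
      obtain ⟨w, hw, hBw⟩ := H.exists_B ht0
      obtain ⟨m1, m2⟩ := main w hw (by rw [hBw]; exact ht1)
      obtain ⟨-, n1, n2, -⟩ := H.generic hxy hw (by rw [hBw]; exact ht2)
      rw [n1] at m1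
      rw [n2] at m2
      have h8 : R δ J T B (x * y) = R δ J T B x + R δ J T B y := add_right_cancel m1
      refine ⟨h8, ?_⟩
      rw [h8, dt_add_left, dt_add_right] at m2
      linear_combination m2
  · obtain ⟨-, h1, h2, -⟩ := H.generic hx hy hD
    exact ⟨h1, h2⟩

/-- A traceless linear map. -/
def jf (j₁ j₂ j₃ : F) (c : F × F) : F × F := (j₁ * c.1 + j₃ * c.2, j₂ * c.1 - j₁ * c.2)

theorem jf_smul (j₁ j₂ j₃ l : F) (c : F × F) : jf j₁ j₂ j₃ (l • c) = l • jf j₁ j₂ j₃ c := by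
  unfold jf
  ext <;> simp only [Prod.smul_fst, Prod.smul_snd, smul_eq_mul] <;> ring

theorem jf_add (j₁ j₂ j₃ : F) (c d : F × F) : jf j₁ j₂ j₃ (c + d) = jf j₁ j₂ j₃ c + jf j₁ j₂ j₃ d := by
  unfold jf
  ext <;> simp only [Prod.fst_add, Prod.snd_add] <;> ring

/-- A linear map prescribed on a basis, of trace zero. -/
theorem exists_jf {a b p r : F × F} (hab : dt a b ≠ 0) (htr : dt p b + dt a r = 0) :
    ∃ j₁ j₂ j₃ : F, jf j₁ j₂ j₃ a = p ∧ jf j₁ j₂ j₃ b = r := by
  have h := hab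
  unfold dt at hab htr
  refine ⟨(b.2 * p.1 - a.2 * r.1) / dt a b, (b.2 * p.2 - a.2 * r.2) / dt a b,
    (-b.1 * p.1 + a.1 * r.1) / dt a b, ?_, ?_⟩
  · unfold jf
    ext
    · simp only; field_simp; unfold dt; ring
    · simp only; field_simp; unfold dt; linear_combination (-a.2) * htr
  · unfold jf
    ext
    · simp only; field_simp; unfold dt; ring
    · simp only; field_simp; unfold dt; linear_combination (-b.2) * htr

theorem exists_J (H : Coord δ J T B) (hne : ∃ x, x ∉ Set.range δ) :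
    ∃ j₁ j₂ j₃ : F, (∀ x, x ∉ Set.range δ →
      jf j₁ j₂ j₃ (R δ J T B x) = dt (R δ J T B x) (jf j₁ j₂ j₃ (R δ J T B x)) • B x) ∧
      (∀ c, c ≠ 0 → dt c (jf j₁ j₂ j₃ c) ≠ 0) ∧ (∀ c, c ≠ 0 → ∃ x, x ∉ Set.range δ ∧ R δ J T B x = c) := by
  obtain ⟨x₀, hx₀⟩ := hne
  have d0 := H.dt_R hx₀
  have hv : B x₀ + R δ J T B x₀ ≠ 0 := by
    intro h
    have : dt (R δ J T B x₀) (B x₀ + R δ J T B x₀) = 1 := by rw [dt_add_right, d0, dt_self, add_zero]
    rw [h, dt_zero_right] at this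
    exact zero_ne_one this
  obtain ⟨y₀, hy₀, hB₀⟩ := H.exists_B hv
  have d1 := H.dt_R hy₀
  set a := R δ J T B x₀ with ha
  set b := R δ J T B y₀ with hb
  set A := dt a (B y₀) with hA
  set A' := dt b (B x₀) with hA'
  have hA1 : A = 1 := by rw [hA, hB₀, dt_add_right, d0, dt_self, add_zero]
  have hD : dt (B x₀) (B y₀) = -1 := by
    rw [hB₀, dt_add_right, dt_self, zero_add, dt_swap, d0]
  have hD0 : dt (B x₀) (B y₀) ≠ 0 := by rw [hD]; exact neg_ne_zero.mpr one_ne_zero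
  have hA'0 : A' ≠ 0 := by
    intro h0
    obtain ⟨m1, -, -, m4⟩ := H.generic hx₀ hy₀ hD0
    rw [← ha, ← hb, ← hA, ← hA', h0, hA1] at m4
    simp only [mul_zero, add_zero, one_smul, zero_smul] at m4
    obtain ⟨c, hc⟩ := H.exists_eq hx₀ m1 m4.symm
    apply hy₀
    refine ⟨c, ?_⟩
    rw [H.cen] at hc
    exact (mul_left_cancel hc).symm
  have hab : dt a b ≠ 0 := fun h => hD0 (par' H hx₀ hy₀ h)
  set p := A • B x₀ with hp
  set r := A' • B y₀ with hr
  have htr : dt p b + dt a r = 0 := by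
    rw [hp, hr, dt_smul_left, dt_smul_right, dt_swap b (B x₀), ← hA', ← hA]; ring
  have hpr : dt p r ≠ 0 := by
    rw [hp, hr, dt_smul_left, dt_smul_right]
    exact mul_ne_zero (by rw [hA1]; exact one_ne_zero) (mul_ne_zero hA'0 hD0)
  clear_value p r
  obtain ⟨j₁, j₂, j₃, hja, hjb⟩ := exists_jf hab htr
  have hdec : ∀ c : F × F, c = (dt c b / dt a b) • a + (dt a c / dt a b) • b := by
    intro c
    have h1 := cramer a b c
    have h2 : c = (dt a b)⁻¹ • (dt a b • c) := by rw [smul_smul, inv_mul_cancel₀ hab, one_smul]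
    rw [h1] at h2
    rw [smul_add, smul_smul, smul_smul] at h2
    rw [div_eq_mul_inv, div_eq_mul_inv, mul_comm (dt c b), mul_comm (dt a c)]
    exact h2
  -- the main relation
  have rel : ∀ x, x ∉ Set.range δ →
      jf j₁ j₂ j₃ (R δ J T B x) = dt (R δ J T B x) (jf j₁ j₂ j₃ (R δ J T B x)) • B x := by
    intro x hx
    obtain ⟨μ, l, hc⟩ : ∃ μ l : F, R δ J T B x = μ • a + l • b := ⟨_, _, hdec _⟩
    have e1 : jf j₁ j₂ j₃ (R δ J T B x) = μ • p + l • r := by
      rw [hc, jf_add, jf_smul, jf_smul, hja, hjb]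
    have f1 : dt a p = A := by rw [hp, dt_smul_right, d0, mul_one]
    have f2 : dt b r = A' := by rw [hr, dt_smul_right, d1, mul_one]
    have f3 : dt a r = A' * A := by rw [hr, dt_smul_right, ← hA]
    have f4 : dt b p = A * A' := by rw [hp, dt_smul_right, ← hA']
    have e2 : dt (R δ J T B x) (jf j₁ j₂ j₃ (R δ J T B x)) = μ ^ 2 * A + l ^ 2 * A' + 2 * μ * l * (A * A') := by
      rw [e1, hc]
      simp only [dt_add_left, dt_add_right, dt_smul_left, dt_smul_right, f1, f2, f3, f4]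
      ring
    rw [e2, e1]
    by_cases hl : l = 0
    · rw [hl, zero_smul, add_zero] at hc
      have hμ : μ ≠ 0 := by
        rintro rfl
        rw [zero_smul] at hc
        exact H.R_ne hx hc
      have h3 := B_smul_of_R H hx₀ hx hμ hc
      rw [h3, hl, hp, zero_smul, add_zero, smul_smul, smul_smul]
      congr 1
      field_simp
      ring
    by_cases hμ : μ = 0
    · rw [hμ, zero_smul, zero_add] at hc
      have h3 := B_smul_of_R H hy₀ hx hl hc
      rw [h3, hμ, hr, zero_smul, zero_add, smul_smul, smul_smul]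
      congr 1
      field_simp
      ring
    obtain ⟨x₁, hx₁, -, hR₁, hB₁⟩ := H.exists_scale hμ hx₀
    obtain ⟨y₁, hy₁, -, hR₂, hB₂⟩ := H.exists_scale hl hy₀
    have hD1 : dt (B x₁) (B y₁) ≠ 0 := by
      rw [hB₁, hB₂, dt_smul_left, dt_smul_right]
      exact mul_ne_zero (inv_ne_zero hμ) (mul_ne_zero (inv_ne_zero hl) hD0)
    obtain ⟨m1, m2, -, m4⟩ := H.generic hx₁ hy₁ hD1
    have h3 : B (x₁ * y₁) = B x := by
      have := B_smul_of_R H hx m1 (l := 1) one_ne_zero (by rw [one_smul, m2, hR₁, hR₂, ← hc])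
      rw [this, inv_one, one_smul]
    rw [h3, hR₁, hR₂, hB₁, hB₂] at m4
    simp only [dt_smul_left, dt_smul_right] at m4
    rw [← ha, ← hb, ← hA, ← hA'] at m4
    have h4 := congrArg (fun v => (μ * l) • v) m4
    simp only [smul_add, smul_smul] at h4
    rw [hp, hr, smul_smul, smul_smul]
    have g1 : μ * l * (l⁻¹ * (μ * A) + μ⁻¹ * (l * A') + 2 * (l⁻¹ * (μ * A)) * (μ⁻¹ * (l * A'))) =
        μ ^ 2 * A + l ^ 2 * A' + 2 * μ * l * (A * A') := by
      field_simp
    have g2 : μ * l * (l⁻¹ * (μ * A) * μ⁻¹) = μ * A := by field_simp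
    have g3 : μ * l * (μ⁻¹ * (l * A') * l⁻¹) = l * A' := by field_simp
    rw [g1, g2, g3] at h4
    exact h4.symm
  have hjinj : ∀ c, jf j₁ j₂ j₃ c = 0 → c = 0 := by
    intro c hc
    obtain ⟨μ, l, hcc⟩ : ∃ μ l : F, c = μ • a + l • b := ⟨_, _, hdec _⟩
    have e1 : jf j₁ j₂ j₃ c = μ • p + l • r := by
      rw [hcc, jf_add, jf_smul, jf_smul, hja, hjb]
    rw [hc] at e1
    have h1 : μ = 0 := by
      have : dt (μ • p + l • r) r = 0 := by rw [← e1, dt_zero_left]
      rw [dt_add_left, dt_smul_left, dt_smul_left, dt_self, mul_zero, add_zero] at this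
      exact (mul_eq_zero.mp this).resolve_right hpr
    have h2 : l = 0 := by
      have : dt p (μ • p + l • r) = 0 := by rw [← e1, dt_zero_right]
      rw [dt_add_right, dt_smul_right, dt_smul_right, dt_self, mul_zero, zero_add] at this
      exact (mul_eq_zero.mp this).resolve_right hpr
    rw [hcc, h1, h2, zero_smul, zero_smul, add_zero]
  have key : ∀ c, c ≠ 0 → dt c (jf j₁ j₂ j₃ c) ≠ 0 ∧ ∃ x, x ∉ Set.range δ ∧ R δ J T B x = c := by
    intro c hc
    have hu : jf j₁ j₂ j₃ c ≠ 0 := fun h => hc (hjinj c h)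
    obtain ⟨x, hx, hBx⟩ := H.exists_B hu
    have h1 := rel x hx
    set k := dt (R δ J T B x) (jf j₁ j₂ j₃ (R δ J T B x)) with hk
    rw [hBx, ← jf_smul] at h1
    have h2 : R δ J T B x = k • c := by
      have h3 : jf j₁ j₂ j₃ (R δ J T B x + (-1 : F) • (k • c)) = 0 := by
        rw [jf_add, jf_smul, ← h1, neg_one_smul, add_neg_cancel]
      have h4 := hjinj _ h3
      rw [neg_one_smul] at h4
      exact add_neg_eq_zero.mp h4
    have hk0 : k ≠ 0 := by
      intro h0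
      rw [h0, zero_smul] at h2
      exact H.R_ne hx h2
    have h5 : k = k * (k * dt c (jf j₁ j₂ j₃ c)) := by
      conv_lhs => rw [hk, h2, jf_smul, dt_smul_left, dt_smul_right]
    have h6 : k * dt c (jf j₁ j₂ j₃ c) = 1 := by
      have := mul_left_cancel₀ hk0 (show k * 1 = k * (k * dt c (jf j₁ j₂ j₃ c)) by rw [mul_one]; exact h5)
      exact this.symm
    refine ⟨right_ne_zero_of_mul_eq_one h6, ?_⟩
    obtain ⟨w, hw, -, hRw, -⟩ := H.exists_scale (inv_ne_zero hk0) hx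
    exact ⟨w, hw, by rw [hRw, h2, smul_smul, inv_mul_cancel₀ hk0, one_smul]⟩
  exact ⟨j₁, j₂, j₃, rel, fun c hc => (key c hc).1, fun c hc => (key c hc).2⟩

end Cfsg.Agent.UThreeOdd.Alg2
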