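import Mathlib
import Cfsg.Agent.UThreeGen.MatGroup
import Cfsg.Agent.UThreeOdd.Alg2

/-!
# `Q` is the Hermitian Heisenberg group
-/

set_option autoImplicit false

namespace Cfsg.Agent.UThreeOdd.Heis

open Cfsg.Agent.UThreeOdd.Alg Cfsg.Agent.UThreeOdd.Alg2 Cfsg.Agent.UThreeGen.MatGroup

/-- A square root of a non-square of `F` in the quadratic extension. -/
theorem exists_theta {F L : Type*} [Field F] [Fintype F] [Field L] [Fintype L] (i : F →+* L) {q : ℕ}
    (hF : Fintype.card F = q) (hL : Fintype.card L = q ^ 2) (h2 : (2 : F) ≠ 0) {d : F} (hd : ¬ IsSquare d) :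
    ∃ θ : L, θ * θ = i d ∧ θ ^ q = -θ := by
  have hd0 : d ≠ 0 := by
    rintro rfl
    exact hd (IsSquare.zero)
  have hcF : ringChar F ≠ 2 := by
    intro h
    apply h2
    have := ringChar.Nat.cast_ringChar (R := F)
    rw [h] at this
    exact_mod_cast this
  have hcL : ringChar L ≠ 2 := by
    intro h
    have h3 := ringChar.Nat.cast_ringChar (R := L)
    rw [h] at h3
    apply h2
    apply i.injective
    rw [map_zero, map_ofNat]
    exact_mod_cast h3
  have hodd : Odd q := by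
    rw [← hF]
    exact Nat.odd_iff.mpr (FiniteField.odd_card_of_char_ne_two hcF)
  obtain ⟨k, hk⟩ := hodd
  have hk2 : q / 2 = k := by omega
  have hid0 : i d ≠ 0 := fun h => hd0 (i.injective (by rw [h, map_zero]))
  have hsq : IsSquare (i d) := by
    rw [FiniteField.isSquare_iff hcL hid0, hL]
    have e1 : q ^ 2 / 2 = (q - 1) * (k + 1) := by
      have : q ^ 2 = 2 * (2 * k * (k + 1)) + 1 := by rw [hk]; ring
      rw [this, hk]
      have h3 : 2 * k + 1 - 1 = 2 * k := by omega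
      rw [h3]
      omega
    rw [e1, pow_mul, ← map_pow]
    have h4 : d ^ (q - 1) = 1 := by rw [← hF]; exact FiniteField.pow_card_sub_one_eq_one d hd0
    rw [h4, map_one, one_pow]
  obtain ⟨θ, hθ⟩ := hsq
  refine ⟨θ, hθ.symm, ?_⟩
  have h5 : d ^ (Fintype.card F / 2) = -1 := by
    rcases FiniteField.pow_dichotomy hcF hd0 with h | h
    · exact absurd ((FiniteField.isSquare_iff hcF hd0).mpr h) hd
    · exact h
  rw [hF, hk2] at h5
  rw [hk, pow_succ, pow_mul, pow_two, ← hθ, ← map_pow, h5, map_neg, map_one, neg_one_mul]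

variable {F : Type*} [Field F] {Q : Type*} [Group Q] {δ : F → Q} {J : Q →* Q} {T B : Q → F × F}

theorem exists_heis [Fintype F] (H : Coord δ J T B) (hne : ∃ x, x ∉ Set.range δ)
    {L : Type*} [Field L] [Fintype L] (i : F →+* L) {q : ℕ} (hF : Fintype.card F = q)
    (hL : Fintype.card L = q ^ 2) {σ : L →+* L} [hσ : Fact (∀ x, σ (σ x) = x)] (hs : ∀ x, σ x = x ^ q) :
    ∃ (Θ : Q ≃* HG σ) (η : L), η ≠ 0 ∧ σ η = -η ∧
      (∀ c, (Θ (δ c)).a = 0 ∧ (Θ (δ c)).b = η * i c) ∧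
      ∀ x y, x ∉ Set.range δ → y ∉ Set.range δ → T y = B x → B y = -T x →
        (Θ y).a = η * (Θ x).a / σ (Θ x).b ∧ (Θ y).b = -(η * η) / (Θ x).b := by
  classical
  obtain ⟨j₁, j₂, j₃, hrel, hani, hsurj⟩ := exists_J H hne
  have h2F := H.two
  have h2 : (2 : L) ≠ 0 := by
    intro h
    apply h2F
    apply i.injective
    rw [map_ofNat, map_zero]; exact h
  have hj2 : j₂ ≠ 0 := by
    have := hani (1, 0) (by intro h; exact one_ne_zero (congrArg Prod.fst h))
    simpa [dt, jf] using this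
  have hj2L : i j₂ ≠ 0 := fun h => hj2 (i.injective (by rw [h, map_zero]))
  have hd : ¬ IsSquare (j₁ * j₁ + j₃ * j₂) := by
    rintro ⟨s, hs'⟩
    have hne : ((j₁ + s, j₂) : F × F) ≠ 0 := fun h => hj2 (congrArg Prod.snd h)
    apply hani _ hne
    simp only [dt, jf]
    linear_combination (-j₂) * hs'
  obtain ⟨θ, hθ, hθq⟩ := exists_theta i hF hL h2F hd
  have hθσ : σ θ = -θ := by rw [hs, hθq]
  have hθ0 : θ ≠ 0 := by
    rintro rfl
    rw [mul_zero] at hθ
    have h3 : j₁ * j₁ + j₃ * j₂ = 0 := i.injective (by rw [← hθ, map_zero])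
    exact hd (h3 ▸ IsSquare.zero)
  have hiσ : ∀ x : F, σ (i x) = i x := by
    intro x
    rw [hs, ← map_pow, ← hF, FiniteField.pow_card]
  rw [map_add, map_mul, map_mul] at hθ
  -- the coordinate map
  let ψ : F × F → L := fun c => i c.1 + i c.2 * ((θ - i j₁) / i j₂)
  let η : L := θ / (2 * i j₂)
  have hη0 : η ≠ 0 := div_ne_zero hθ0 (mul_ne_zero h2 hj2L)
  have hσ2 : σ (2 : L) = 2 := map_ofNat σ 2
  have hησ : σ η = -η := by
    show σ (θ / (2 * i j₂)) = -(θ / (2 * i j₂))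
    rw [map_div₀, map_mul, hσ2, hiσ, hθσ, neg_div]
  have hθη : θ = 2 * i j₂ * η := by
    show θ = 2 * i j₂ * (θ / (2 * i j₂)); field_simp
  have hψσ : ∀ c, σ (ψ c) = i c.1 + i c.2 * ((-θ - i j₁) / i j₂) := by
    intro c
    show σ (i c.1 + i c.2 * ((θ - i j₁) / i j₂)) = _
    rw [map_add, map_mul, map_div₀, map_sub, hiσ, hiσ, hiσ, hiσ, hθσ]
  have hψadd : ∀ c d, ψ (c + d) = ψ c + ψ d := by
    intro c d
    show i (c + d).1 + i (c + d).2 * ((θ - i j₁) / i j₂) = _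
    rw [Prod.fst_add, Prod.snd_add, map_add, map_add]
    show _ = i c.1 + i c.2 * ((θ - i j₁) / i j₂) + (i d.1 + i d.2 * ((θ - i j₁) / i j₂))
    ring
  have hψsmul : ∀ (l : F) c, ψ (l • c) = i l * ψ c := by
    intro l c
    show i (l • c).1 + i (l • c).2 * ((θ - i j₁) / i j₂) = i l * (i c.1 + i c.2 * ((θ - i j₁) / i j₂))
    rw [Prod.smul_fst, Prod.smul_snd, smul_eq_mul, smul_eq_mul, map_mul, map_mul]
    ring
  have hψneg : ∀ c, ψ (-c) = -ψ c := by
    intro c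
    have := hψsmul (-1) c
    rwa [neg_one_smul, map_neg, map_one, neg_one_mul] at this
  have hψzero : ψ 0 = 0 := by
    show i (0 : F × F).1 + i (0 : F × F).2 * ((θ - i j₁) / i j₂) = 0
    simp
  have F1 : ∀ c, ψ c * σ (ψ c) * i j₂ = i (dt c (jf j₁ j₂ j₃ c)) := by
    intro c
    rw [hψσ]
    show (i c.1 + i c.2 * ((θ - i j₁) / i j₂)) * _ * _ = _
    simp only [dt, jf, map_sub, map_mul, map_add]
    field_simp
    linear_combination (-(i c.2) ^ 2) * hθ
  have F2 : ∀ c d, ψ c * σ (ψ d) - σ (ψ c) * ψ d = -4 * η * i (dt c d) := by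
    intro c d
    rw [hψσ, hψσ]
    show (i c.1 + i c.2 * ((θ - i j₁) / i j₂)) * _ - _ * (i d.1 + i d.2 * ((θ - i j₁) / i j₂)) = _
    rw [hθη]
    simp only [dt, map_sub, map_mul]
    field_simp
    ring
  have Fθ : ∀ c, ψ (jf j₁ j₂ j₃ c) = θ * ψ c := by
    intro c
    show i (jf j₁ j₂ j₃ c).1 + i (jf j₁ j₂ j₃ c).2 * ((θ - i j₁) / i j₂) = θ * (i c.1 + i c.2 * ((θ - i j₁) / i j₂))
    simp only [jf, map_sub, map_mul, map_add]
    field_simp
    linear_combination (-(i c.2)) * hθ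
  have hψne : ∀ c, c ≠ 0 → ψ c ≠ 0 := by
    intro c hc h
    have h3 := F1 c
    rw [h, zero_mul, zero_mul] at h3
    exact hani c hc (i.injective (by rw [← h3, map_zero]))
  have hψinj : Function.Injective ψ := by
    intro c d h
    by_contra hcd
    have h3 : c + -d ≠ 0 := fun h => hcd (add_neg_eq_zero.mp h)
    apply hψne _ h3
    rw [hψadd, hψneg, h, add_neg_cancel]
  have hψsurj : Function.Surjective ψ := by
    have : Function.Bijective ψ := by
      rw [Fintype.bijective_iff_injective_and_card]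
      exact ⟨hψinj, by rw [Fintype.card_prod, hF, hL, sq]⟩
    exact this.2
  have hfix : ∀ x : L, σ x = x → ∃ c, i c = x := by
    intro x hx
    obtain ⟨c, rfl⟩ := hψsurj x
    rw [hψσ] at hx
    change i c.1 + _ = i c.1 + i c.2 * ((θ - i j₁) / i j₂) at hx
    have h3 : i c.2 * θ = 0 := by
      have h4 := add_left_cancel hx
      field_simp at h4
      have h5 : 2 * (i c.2 * θ) = 0 := by linear_combination -h4
      exact (mul_eq_zero.mp h5).resolve_left h2
    have h4 : i c.2 = 0 := (mul_eq_zero.mp h3).resolve_right hθ0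
    refine ⟨c.1, ?_⟩
    show i c.1 = i c.1 + i c.2 * _
    rw [h4, zero_mul, add_zero]
  -- the homomorphism
  clear_value ψ η
  let Θ₀ : Q → HG σ := fun x => ⟨ψ (R δ J T B x), ψ (R δ J T B x) * σ (ψ (R δ J T B x)) / 2 + η * i (Z δ J x), by
    rw [map_add, map_div₀, map_mul, map_mul, hσ.out, hσ2, hησ, hiσ]
    field_simp
    ring⟩
  have hΘa : ∀ x, (Θ₀ x).a = ψ (R δ J T B x) := fun _ => rfl
  have hΘb : ∀ x, (Θ₀ x).b = ψ (R δ J T B x) * σ (ψ (R δ J T B x)) / 2 + η * i (Z δ J x) := fun _ => rfl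
  have hmul : ∀ x y, Θ₀ (x * y) = Θ₀ x * Θ₀ y := by
    intro x y
    obtain ⟨h3, h4⟩ := RZ_mul H x y
    ext
    · rw [mul_a, hΘa, hΘa, hΘa, h3, hψadd]
    · rw [mul_b, hΘb, hΘb, hΘb, hΘa, hΘa, h3, h4, hψadd, map_add σ, map_sub i, map_add i, map_mul i, map_ofNat]
      have := F2 (R δ J T B x) (R δ J T B y)
      field_simp
      linear_combination -this
  let Θ₁ : Q →* HG σ := MonoidHom.mk' Θ₀ hmul
  have hinj : Function.Injective Θ₁ := by
    rw [injective_iff_map_eq_one]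
    intro x hx
    have h3 : ψ (R δ J T B x) = 0 := congrArg HG.a hx
    have h4 : ψ (R δ J T B x) * σ (ψ (R δ J T B x)) / 2 + η * i (Z δ J x) = 0 := congrArg HG.b hx
    by_cases hx' : x ∈ Set.range δ
    · obtain ⟨c, rfl⟩ := hx'
      rw [h3, H.Z_δ, zero_mul, zero_div, zero_add] at h4
      have h5 : i c = 0 := (mul_eq_zero.mp h4).resolve_left hη0
      have h6 : c = 0 := i.injective (by rw [h5, map_zero])
      rw [h6, H.zero]
    · exact absurd h3 (hψne _ (H.R_ne hx'))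
  have hsur : Function.Surjective Θ₁ := by
    intro y
    obtain ⟨c, hc⟩ := hψsurj y.a
    obtain ⟨x₀, hx₀⟩ : ∃ x, R δ J T B x = c := by
      by_cases hc0 : c = 0
      · exact ⟨1, by rw [hc0, R_mem H.one_mem]⟩
      · obtain ⟨x, -, hx⟩ := hsurj c hc0
        exact ⟨x, hx⟩
    have hγ : σ ((y.b - y.a * σ y.a / 2) / η) = (y.b - y.a * σ y.a / 2) / η := by
      have hy := y.h
      have hb : σ y.b = y.a * σ y.a - y.b := by linear_combination hy
      rw [map_div₀, map_sub, map_div₀, map_mul, hσ.out, hσ2, hησ, hb]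
      field_simp
      ring
    obtain ⟨z, hz⟩ := hfix _ hγ
    refine ⟨δ (z - Z δ J x₀) * x₀, ?_⟩
    ext
    · show ψ (R δ J T B (δ (z - Z δ J x₀) * x₀)) = y.a
      rw [H.R_mul_δ, hx₀, hc]
    · show ψ (R δ J T B (δ (z - Z δ J x₀) * x₀)) * σ (ψ (R δ J T B (δ (z - Z δ J x₀) * x₀))) / 2 +
        η * i (Z δ J (δ (z - Z δ J x₀) * x₀)) = y.b
      rw [H.R_mul_δ, hx₀, hc, H.Z_mul, sub_add_cancel, hz]
      field_simp
      ring
  have F3 : ∀ x, x ∉ Set.range δ → ψ (B x) * σ (ψ (R δ J T B x)) = 2 * η := by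
    intro x hx
    have h3 := hrel x hx
    have h4 := congrArg ψ h3
    rw [Fθ, hψsmul, ← F1] at h4
    have h5 : ψ (R δ J T B x) ≠ 0 := hψne _ (H.R_ne hx)
    have h6 : θ = σ (ψ (R δ J T B x)) * i j₂ * ψ (B x) := by
      have : ψ (R δ J T B x) * θ = ψ (R δ J T B x) * (σ (ψ (R δ J T B x)) * i j₂ * ψ (B x)) := by
        linear_combination h4
      exact mul_left_cancel₀ h5 this
    have h7 : i j₂ * (ψ (B x) * σ (ψ (R δ J T B x))) = i j₂ * (2 * η) := by
      have : i j₂ * (2 * η) = θ := by rw [hθη]; ring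
      rw [this, h6]; ring
    exact mul_left_cancel₀ hj2L h7
  have F4 : ∀ x, x ∉ Set.range δ → ψ (T x) * σ (ψ (R δ J T B x)) = 2 * (Θ₀ x).b := by
    intro x hx
    have h3 := F3 x hx
    rw [T_eq (J := J) (T := T) (B := B) hx, hψadd, hψsmul, hΘb]
    field_simp
    linear_combination (i (Z δ J x)) * h3
  have hbne : ∀ x, x ∉ Set.range δ → (Θ₀ x).b ≠ 0 := by
    intro x hx
    apply b_ne_zero
    intro h
    exact hψne _ (H.R_ne hx) (congrArg HG.a h)
  refine ⟨MulEquiv.ofBijective Θ₁ ⟨hinj, hsur⟩, η, hη0, hησ, ?_, ?_⟩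
  · intro c
    refine ⟨?_, ?_⟩
    · show ψ (R δ J T B (δ c)) = 0
      rw [R_mem ⟨c, rfl⟩, hψzero]
    · show ψ (R δ J T B (δ c)) * σ (ψ (R δ J T B (δ c))) / 2 + η * i (Z δ J (δ c)) = η * i c
      rw [R_mem ⟨c, rfl⟩, hψzero, zero_mul, zero_div, zero_add, H.Z_δ]
  · intro x y hx hy hT hB
    show (Θ₀ y).a = η * (Θ₀ x).a / σ (Θ₀ x).b ∧ (Θ₀ y).b = -(η * η) / (Θ₀ x).b
    have g1 := F3 x hx
    have g2 := F4 x hx
    have g3 := F3 y hy
    have g4 := F4 y hy
    rw [hB, hψneg] at g3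
    rw [hT] at g4
    have hs0 : ψ (R δ J T B x) ≠ 0 := hψne _ (H.R_ne hx)
    have hs1 : σ (ψ (R δ J T B x)) ≠ 0 := fun h => hs0 ((map_eq_zero σ).mp h)
    have hb0 := hbne x hx
    have hb1 : σ (Θ₀ x).b ≠ 0 := fun h => hb0 ((map_eq_zero σ).mp h)
    -- `σ ψ(R y) = - η σ s / b`
    have g5 : σ (ψ (R δ J T B y)) * (Θ₀ x).b = -η * σ (ψ (R δ J T B x)) := by
      have : 2 * (σ (ψ (R δ J T B y)) * (Θ₀ x).b) = 2 * (-η * σ (ψ (R δ J T B x))) := by
        linear_combination (-σ (ψ (R δ J T B y))) * g2 - σ (ψ (R δ J T B x)) * g3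
      exact mul_left_cancel₀ h2 this
    constructor
    · rw [hΘa, hΘa, eq_div_iff hb1]
      have := congrArg σ g5
      rw [map_mul, map_mul, map_neg, hσ.out, hσ.out, hησ, neg_neg] at this
      exact this
    · rw [eq_div_iff hb0]
      have h9 : (2 * σ (ψ (R δ J T B x))) * ((Θ₀ y).b * (Θ₀ x).b) = (2 * σ (ψ (R δ J T B x))) * (-(η * η)) := by
        linear_combination (-(σ (ψ (R δ J T B x)) * (Θ₀ x).b)) * g4 + (σ (ψ (R δ J T B y)) * (Θ₀ x).b) * g1 + 2 * η * g5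
      exact mul_left_cancel₀ (mul_ne_zero h2 hs1) h9

end Cfsg.Agent.UThreeOdd.Heis
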