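import Mathlib
import Cfsg.Prelude.Def_Classical
import Cfsg.Agent.UThreeGen.MatGroup
import Cfsg.Agent.UThreeGen.DataIso
import Cfsg.Agent.UThreeGen.Recog
import Cfsg.Agent.S0283

/-!
# `PSU₃(q)`, `q` odd, as a rank-one group with the element `n = k w` of square `-1`
-/

set_option autoImplicit false
set_option linter.unusedSectionVars false

namespace Cfsg.Agent.UThreeOdd.Model

open Cfsg.Agent.LieRecognition.RankOneAbstract Cfsg.Agent.UThreeGen.MatGroup
  Cfsg.Agent.UThreeGen.DataIso Matrix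
open Cfsg.Agent.LieRecognition.PSUThreeSylow (conjT conjT_coe mem_SU_iff)

/-- Uniqueness of rank-one data, `w² ∈ H`. -/
theorem exists_mulEquiv_of_data {G G' : Type*} [Group G] [Group G'] {H S : Subgroup G} {w : G}
    {H' S' : Subgroup G'} {w' : G'}
    (D : Data H S w) (D' : Data H' S' w') (hw : w * w ∈ H) (hw' : w' * w' ∈ H')
    (hcore : ∀ g : G, (∀ k : G, k⁻¹ * g * k ∈ H) → g = 1)
    (hcore' : ∀ g : G', (∀ k : G', k⁻¹ * g * k ∈ H') → g = 1)
    (hgen : Subgroup.closure ((S : Set G) ∪ {w}) = ⊤)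
    (hgen' : Subgroup.closure ((S' : Set G') ∪ {w'}) = ⊤)
    (φ : S ≃* S')
    (hφ : ∀ x y : S, x ≠ 1 → ((y : G) * w)⁻¹ * (w * (x : G) * w) ∈ H →
      ((φ y : G') * w')⁻¹ * (w' * (φ x : G') * w') ∈ H') :
    ∃ Φ : G ≃* G', (∀ x : S, Φ (x : G) = (φ x : G')) ∧ Φ w = w' := by
  classical
  have hf : FaithfulSMul G (G ⧸ H) := faithful_of_core H hcore
  have hf' : FaithfulSMul G' (G' ⧸ H') := faithful_of_core H' hcore'
  let e : (G ⧸ H) ≃ (G' ⧸ H') := ((D.equiv).symm.trans (Equiv.optionCongr φ.toEquiv)).trans (D'.equiv)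
  have hD0 : D.equiv none = (QuotientGroup.mk 1 : G ⧸ H) := rfl
  have hDs : ∀ s : S, D.equiv (some s) = (QuotientGroup.mk ((s : G) * w) : G ⧸ H) := fun _ => rfl
  have he0 : e (QuotientGroup.mk 1) = QuotientGroup.mk 1 := by
    have : (D.equiv).symm (QuotientGroup.mk 1) = none := by
      rw [Equiv.symm_apply_eq]; exact hD0.symm
    show D'.equiv (Equiv.optionCongr φ.toEquiv ((D.equiv).symm _)) = _
    rw [this]; rfl
  have hes : ∀ s : S, e (QuotientGroup.mk ((s : G) * w)) = QuotientGroup.mk ((φ s : G') * w') := by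
    intro s
    have : (D.equiv).symm (QuotientGroup.mk ((s : G) * w)) = some s := by
      rw [Equiv.symm_apply_eq]; exact (hDs s).symm
    show D'.equiv (Equiv.optionCongr φ.toEquiv ((D.equiv).symm _)) = _
    rw [this]; rfl
  have hpt : ∀ ω : G ⧸ H, ω = QuotientGroup.mk 1 ∨ ∃ s : S, ω = QuotientGroup.mk ((s : G) * w) := by
    intro ω
    by_cases hω : ω = QuotientGroup.mk 1
    · exact Or.inl hω
    · obtain ⟨s, hs⟩ := D.exists_eq ω hω
      exact Or.inr ⟨s, hs.symm⟩
  have hsm : ∀ (g k : G), g • (QuotientGroup.mk k : G ⧸ H) = QuotientGroup.mk (g * k) :=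
    fun _ _ => rfl
  have hsm' : ∀ (g k : G'), g • (QuotientGroup.mk k : G' ⧸ H') = QuotientGroup.mk (g * k) :=
    fun _ _ => rfl
  have hS : ∀ (x : S) (ω : G ⧸ H), e ((x : G) • ω) = (φ x : G') • e ω := by
    intro x ω
    rcases hpt ω with rfl | ⟨y, rfl⟩
    · have h1 : (x : G) • (QuotientGroup.mk 1 : G ⧸ H) = QuotientGroup.mk 1 := by
        rw [hsm, eq_comm, QuotientGroup.eq]
        simpa using D.le x.2
      have h2 : (φ x : G') • (QuotientGroup.mk 1 : G' ⧸ H') = QuotientGroup.mk 1 := by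
        rw [hsm', eq_comm, QuotientGroup.eq]
        simpa using D'.le (φ x).2
      rw [h1, he0, h2]
    · rw [hsm, ← mul_assoc, ← Subgroup.coe_mul, hes, hes, hsm', map_mul, Subgroup.coe_mul, mul_assoc]
  have ht : ∀ ω : G ⧸ H, e (w • ω) = w' • e ω := by
    intro ω
    rcases hpt ω with rfl | ⟨x, rfl⟩
    · rw [he0, hsm, hsm', mul_one, mul_one]
      have := hes 1
      simpa using this
    · by_cases hx : x = 1
      · subst hx
        rw [hes, hsm, hsm']
        simp only [Subgroup.coe_one, one_mul, map_one]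
        have e1 : (QuotientGroup.mk (w * w) : G ⧸ H) = QuotientGroup.mk 1 := by
          rw [eq_comm, QuotientGroup.eq]; simpa using hw
        have e2 : (QuotientGroup.mk (w' * w') : G' ⧸ H') = QuotientGroup.mk 1 := by
          rw [eq_comm, QuotientGroup.eq]; simpa using hw'
        rw [e1, e2, he0]
      · have hn : w * (x : G) * w ∉ H := by
          intro h
          apply hx
          apply Subtype.ext
          apply D.inter x x.2
          have : w⁻¹ * (x : G) * w = (w * w)⁻¹ * (w * (x : G) * w) := by group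
          rw [this]
          exact H.mul_mem (H.inv_mem hw) h
        obtain ⟨y, hy, h⟩ := D.bruhat _ hn
        have h2 := hφ x ⟨y, hy⟩ hx h
        have h3 : w • (QuotientGroup.mk ((x : G) * w) : G ⧸ H) = QuotientGroup.mk (y * w) := by
          rw [hsm, eq_comm, QuotientGroup.eq, ← mul_assoc w]
          exact h
        have h4 : w' • (QuotientGroup.mk ((φ x : G') * w') : G' ⧸ H') =
            QuotientGroup.mk ((φ ⟨y, hy⟩ : G') * w') := by
          rw [hsm', eq_comm, QuotientGroup.eq, ← mul_assoc w']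
          exact h2
        rw [h3, hes, h4]
        exact hes ⟨y, hy⟩
  obtain ⟨Φ, h1, -⟩ := SuzukiRankOne.RankOneIso.exists_mulEquiv_of_family (ι := Option S) e
    (fun o => o.elim w (fun x => (x : G))) (fun o => o.elim w' (fun x => (φ x : G')))
    (by
      rw [← hgen]; congr 1; ext y
      simp only [Set.mem_range, Option.exists, Option.elim_none, Option.elim_some, Set.mem_union,
        SetLike.mem_coe, Set.mem_singleton_iff, Subtype.exists, exists_prop, exists_eq_right]
      constructor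
      · rintro (h | h)
        · exact Or.inr h.symm
        · exact Or.inl h
      · rintro (h | h)
        · exact Or.inr h
        · exact Or.inl h.symm)
    (by
      rw [← hgen']; congr 1; ext y
      simp only [Set.mem_range, Option.exists, Option.elim_none, Option.elim_some, Set.mem_union,
        SetLike.mem_coe, Set.mem_singleton_iff]
      constructor
      · rintro (h | ⟨x, h⟩)
        · exact Or.inr h.symm
        · exact Or.inl (h ▸ (φ x).2)
      · rintro (h | h)
        · refine Or.inr ⟨φ.symm ⟨y, h⟩, ?_⟩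
          rw [MulEquiv.apply_symm_apply]
        · exact Or.inl h.symm)
    (by
      rintro (_ | x) ω
      · exact ht ω
      · exact hS x ω)
  exact ⟨Φ, fun x => h1 (some x), h1 none⟩

/-- In a simple group, `S` and `w` generate. -/
theorem closure_eq_top {G : Type*} [Group G] [IsSimpleGroup G] {H S : Subgroup G} {w : G} (D : Data H S w)
    (hS : S ≠ ⊥) : Subgroup.closure ((S : Set G) ∪ {w}) = ⊤ := by
  set K := Subgroup.closure ((S : Set G) ∪ {w}) with hK
  have hSK : S ≤ K := fun x hx => Subgroup.subset_closure (Or.inl hx)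
  have hwK : w ∈ K := Subgroup.subset_closure (Or.inr rfl)
  have hn : Subgroup.normalClosure (S : Set G) ≤ K := by
    rw [Subgroup.normalClosure, Subgroup.closure_le]
    intro x hx
    rw [Group.mem_conjugatesOfSet_iff] at hx
    obtain ⟨s, hs, hc⟩ := hx
    obtain ⟨g, rfl⟩ := isConj_iff.mp hc
    by_cases hg : g ∈ H
    · exact hSK (D.norm g hg s hs)
    · obtain ⟨t, ht, h⟩ := D.bruhat g hg
      have e : g * s * g⁻¹ = t * w * (((t * w)⁻¹ * g) * s * ((t * w)⁻¹ * g)⁻¹) * (t * w)⁻¹ := by group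
      have h2 : t * w ∈ K := K.mul_mem (hSK ht) hwK
      show g * s * g⁻¹ ∈ K
      rw [e]
      exact K.mul_mem (K.mul_mem h2 (hSK (D.norm _ h s hs))) (K.inv_mem h2)
  have h3 : Subgroup.normalClosure (S : Set G) = ⊤ := by
    rcases (Subgroup.normalClosure_normal (s := (S : Set G))).eq_bot_or_eq_top with h | h
    · exfalso
      apply hS
      rw [eq_bot_iff, ← h]
      exact Subgroup.subset_normalClosure
    · exact h
  rw [eq_top_iff, ← h3]
  exact hn

theorem data_mul {G : Type*} [Group G] {H S : Subgroup G} {w k : G} (D : Data H S w) (hk : k ∈ H) :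
    Data H S (k * w) where
  w_not_mem h := D.w_not_mem (by simpa using H.mul_mem (H.inv_mem hk) h)
  le := D.le
  norm := D.norm
  bruhat := by
    intro g hg
    obtain ⟨s, hs, h⟩ := D.bruhat (k⁻¹ * g) (fun h => hg (by simpa using H.mul_mem hk h))
    refine ⟨k * s * k⁻¹, D.norm k hk s hs, ?_⟩
    have e : (k * s * k⁻¹ * (k * w))⁻¹ * g = (s * w)⁻¹ * (k⁻¹ * g) := by group
    rw [e]
    exact h
  inter := by
    intro s hs h
    have e : (k * w)⁻¹ * s * (k * w) = w⁻¹ * (k⁻¹ * s * k) * w := by group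
    rw [e] at h
    have h2 : k⁻¹ * s * k ∈ S := by simpa using D.norm k⁻¹ (H.inv_mem hk) s hs
    have h3 := D.inter _ h2 h
    have h4 : s = k * (k⁻¹ * s * k) * k⁻¹ := by group
    rw [h4, h3]; group

section Mat

variable {F : Type*} [Field F] {σ : F →+* F} [hσ : Fact (∀ x, σ (σ x) = x)]

/-- The torus element `diag (-η, -1, 1/η)`. -/
def Km (η : F) : Matrix (Fin 3) (Fin 3) F := !![-η, 0, 0; 0, -1, 0; 0, 0, η⁻¹]

theorem det_Km {η : F} (h : η ≠ 0) : (Km η).det = 1 := by
  simp [Km, Matrix.det_fin_three, h]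

omit hσ in
theorem Km_mem {η : F} (h : η ≠ 0) (hη : σ η = -η) : (Km η)ᵀ * Gm F * (Km η).map σ = Gm F := by
  ext i j
  fin_cases i <;> fin_cases j <;> simp [Km, Gm, Matrix.mul_apply, Fin.sum_univ_three, hη, h]

/-- The torus element. -/
def kel (σ : F →+* F) (η : F) (h : η ≠ 0) (hη : σ η = -η) : SUG σ := ⟨⟨Km η, det_Km h⟩, Km_mem h hη⟩

theorem kel_mem (η : F) (h : η ≠ 0) (hη : σ η = -η) : kel σ η h hη ∈ borel σ := by
  rw [mem_borel]
  constructor <;> simp [kel, Km]

theorem wel_kel_mem (η : F) (h : η ≠ 0) (hη : σ η = -η) :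
    (wel σ)⁻¹ * kel σ η h hη * wel σ ∈ borel σ := by
  rw [mem_borel, wel_inv]
  have : (wel σ * kel σ η h hη * wel σ).1.1 = Wm F * Km η * Wm F := rfl
  rw [this]
  constructor <;> simp [Km, Wm, Matrix.mul_apply, Fin.sum_univ_three]

theorem kel_emb {η : F} (h : η ≠ 0) (hη : σ η = -η) {x y : HG σ} (ha : y.a = η * x.a)
    (hb : y.b = -(η * η) * x.b) : kel σ η h hη * emb σ x = emb σ y * kel σ η h hη := by
  apply Subtype.ext
  apply Subtype.ext
  have e1 : (kel σ η h hη * emb σ x).1.1 = Km η * umat x := rfl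
  have e2 : (emb σ y * kel σ η h hη).1.1 = umat y * Km η := rfl
  rw [e1, e2]
  ext i j
  fin_cases i <;> fin_cases j <;>
    simp [Km, umat, Matrix.mul_apply, Fin.sum_univ_three, ha, hb, hη]
  · field_simp
  · field_simp

/-- The rank-one structure of `PSU₃(q)` with respect to `n = k w`. -/
theorem exists_model [Fintype F] {q : ℕ} (hq : 2 < q) (h2 : (2 : F) ≠ 0) (hs : ∀ x, σ x = x ^ q)
    (hF : Fintype.card F = q ^ 2) {η : F} (hη0 : η ≠ 0) (hη : σ η = -η) :
    ∃ (H S : Subgroup (Cfsg.PSU 3 F q)) (w : Cfsg.PSU 3 F q) (ψ : HG σ ≃* S),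
      Data H S w ∧ w * w ∈ H ∧
      (∀ g : Cfsg.PSU 3 F q, (∀ k : Cfsg.PSU 3 F q, k⁻¹ * g * k ∈ H) → g = 1) ∧
      Subgroup.closure ((S : Set (Cfsg.PSU 3 F q)) ∪ {w}) = ⊤ ∧
      ∀ x y : HG σ, x ≠ 1 → y.a = η * x.a / σ x.b → y.b = -(η * η) / x.b →
        ((ψ y : Cfsg.PSU 3 F q) * w)⁻¹ * (w * (ψ x : Cfsg.PSU 3 F q) * w) ∈ H := by
  have hF' : Nat.card F = q ^ 2 := by rw [Nat.card_eq_fintype_card, hF]
  have hq1 : 1 < q := by omega
  obtain ⟨x₀, hx₀⟩ := UThreeGen.Recog.exists_a (σ := σ) h2 1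
  have hx : ∃ x : HG σ, x.a ≠ 0 := ⟨x₀, by rw [hx₀]; exact one_ne_zero⟩
  obtain ⟨v, hv⟩ := UThreeGen.Recog.exists_norm (σ := σ) hq1 hs hF' (c := -1) (by rw [map_neg, map_one])
  obtain ⟨T, T', hTT', hT⟩ := UThreeGen.Recog.exists_T (σ := σ) h2 hv
  let e : SUG σ ≃* Cfsg.SU 3 F q :=
    ((conjT hTT').subgroupMap (SUG σ)).trans (MulEquiv.subgroupCongr (UThreeGen.Recog.SU_eq_map hs hTT' hT))
  let π : SUG σ →* Cfsg.PSU 3 F q :=
    (QuotientGroup.mk' (Subgroup.center (Cfsg.SU 3 F q))).comp e.toMonoidHom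
  have hπ : Function.Surjective π := (QuotientGroup.mk'_surjective _).comp e.surjective
  have hker : ∀ g, π g = 1 ↔ g ∈ Subgroup.center (SUG σ) := by
    intro g
    have h1 : π g = 1 ↔ e g ∈ Subgroup.center (Cfsg.SU 3 F q) := by
      rw [← QuotientGroup.eq_one_iff]
      exact Iff.rfl
    rw [h1, Subgroup.mem_center_iff, Subgroup.mem_center_iff]
    constructor
    · intro h k
      apply e.injective
      rw [map_mul, map_mul]
      exact h (e k)
    · intro h k
      obtain ⟨k, rfl⟩ := e.surjective k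
      rw [← map_mul, ← map_mul, h k]
  have hkB : π.ker ≤ borel σ := by
    intro g hg
    exact center_le_borel hx ((hker g).mp hg)
  have hD := data_map data_SUG π hπ hkB
  have hinj : ∀ x : HG σ, π (emb σ x) = 1 → x = 1 := by
    intro x h
    exact eq_one_of_mem_center ((hker _).mp h)
  have hinj2 : Function.Injective (π.comp (emb σ)) := by
    rw [injective_iff_map_eq_one]
    exact hinj
  have hSr : (π.comp (emb σ)).range = (emb σ).range.map π := by
    rw [MonoidHom.range_comp]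
  let ψ : HG σ ≃* ((emb σ).range.map π : Subgroup (Cfsg.PSU 3 F q)) :=
    (MonoidHom.ofInjective hinj2).trans (MulEquiv.subgroupCongr hSr)
  have hψ : ∀ x, (ψ x : Cfsg.PSU 3 F q) = π (emb σ x) := fun _ => rfl
  set k := π (kel σ η hη0 hη) with hk
  have hkm : k ∈ (borel σ).map π := ⟨_, kel_mem η hη0 hη, rfl⟩
  have hww : π (wel σ) * π (wel σ) = 1 := by rw [← map_mul, wel_mul_wel, map_one]
  have hwk : π (wel σ) * k * π (wel σ) ∈ (borel σ).map π := by
    refine ⟨_, wel_kel_mem η hη0 hη, ?_⟩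
    rw [map_mul, map_mul, wel_inv]
  have hD2 : Data ((borel σ).map π) ((emb σ).range.map π) (k * π (wel σ)) := data_mul hD hkm
  have hsimple : IsSimpleGroup (Cfsg.PSU 3 F q) := S0283.result hF 3 le_rfl (by omega)
  have hne : (emb σ).range.map π ≠ ⊥ := by
    intro h
    have h1 : (ψ x₀ : Cfsg.PSU 3 F q) = 1 := by
      have := (Subgroup.eq_bot_iff_forall _).mp h (ψ x₀ : Cfsg.PSU 3 F q) (ψ x₀).2
      exact this
    rw [hψ] at h1
    have h3 := hinj _ h1
    rw [h3] at hx₀
    exact zero_ne_one hx₀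
  refine ⟨(borel σ).map π, (emb σ).range.map π, k * π (wel σ), ψ, hD2, ?_, ?_, ?_, ?_⟩
  · have : k * π (wel σ) * (k * π (wel σ)) = k * (π (wel σ) * k * π (wel σ)) := by group
    rw [this]
    exact Subgroup.mul_mem _ hkm hwk
  · intro g' hg'
    obtain ⟨g, rfl⟩ := hπ g'
    rw [hker]
    apply mem_center_of_fix hx
    intro k
    apply UThreeGen.DataIso.mem_of_map_mem π hkB
    simpa using hg' (π k)
  · exact closure_eq_top hD2 hne
  · intro x y hx1 ha hb
    have hxb := b_ne_zero hx1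
    have hsb : σ x.b ≠ 0 := (map_ne_zero σ).mpr hxb
    -- the point of the involution
    let y₀ : HG σ := ⟨x.a / σ x.b, (x.b)⁻¹, by
      rw [map_inv₀, map_div₀, hσ.out]
      have := x.h
      field_simp
      linear_combination this⟩
    have h1 : (emb σ y₀ * wel σ)⁻¹ * (wel σ * emb σ x * wel σ) ∈ borel σ := wel_conj_mem hx1 rfl rfl
    have h3 : kel σ η hη0 hη * emb σ y₀ = emb σ y * kel σ η hη0 hη := by
      apply kel_emb
      · rw [ha]
        show _ = η * (x.a / σ x.b)
        rw [mul_div_assoc]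
      · rw [hb]
        show _ = -(η * η) * (x.b)⁻¹
        rw [div_eq_mul_inv]
    rw [hψ, hψ]
    refine ⟨(emb σ y₀ * wel σ)⁻¹ * (wel σ * emb σ x * wel σ) * ((wel σ)⁻¹ * kel σ η hη0 hη * wel σ),
      Subgroup.mul_mem _ h1 (wel_kel_mem η hη0 hη), ?_⟩
    have h4 : emb σ y = kel σ η hη0 hη * emb σ y₀ * (kel σ η hη0 hη)⁻¹ := by rw [h3]; group
    rw [h4, hk]
    simp only [map_mul, map_inv]
    group

end Mat

end Cfsg.Agent.UThreeOdd.Model
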