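import Mathlib
import Cfsg.Agent.UThreeOdd.Act
import Cfsg.Agent.UThreeOdd.Heis
import Cfsg.Agent.UThreeOdd.Model

/-!
# A simple group with a `RegAct` is `PSU₃(q)`
-/

set_option autoImplicit false

namespace Cfsg.Agent.UThreeOdd.Final

open Cfsg.Agent.LieRecognition.RankOneAbstract Cfsg.Agent.UThreeGen.MatGroup
  Cfsg.Agent.UThreeOdd.Act Cfsg.Agent.UThreeOdd.Alg Matrix MulAction

/-- The field with `q` elements embeds in the field with `q²` elements. -/
theorem exists_embedding {F L : Type*} [Field F] [Fintype F] [Field L] [Fintype L] {q : ℕ}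
    (hF : Fintype.card F = q) (hL : Fintype.card L = q ^ 2) : Nonempty (F →+* L) := by
  obtain ⟨p, hp⟩ := CharP.exists F
  obtain ⟨n, hprime, hn⟩ := FiniteField.card F p
  have : Fact p.Prime := ⟨hprime⟩
  obtain ⟨p', hp'⟩ := CharP.exists L
  obtain ⟨m, hprime', hm⟩ := FiniteField.card L p'
  have hpp : p' = p := by
    have h1 : p' ∣ p ^ ((n : ℕ) * 2) := by
      rw [pow_mul, ← hn, hF, ← hL, hm]
      exact dvd_pow_self _ m.pos.ne'
    exact (Nat.prime_dvd_prime_iff_eq hprime' hprime).mp (hprime'.dvd_of_dvd_pow h1)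
  subst hpp
  let _ : Algebra (ZMod p') F := ZMod.algebra F p'
  let _ : Algebra (ZMod p') L := ZMod.algebra L p'
  have c1 : p' ^ Module.finrank (ZMod p') F = p' ^ (n : ℕ) := by
    have := Module.natCard_eq_pow_finrank (K := ZMod p') (V := F)
    rw [Nat.card_zmod, Nat.card_eq_fintype_card, hn] at this
    exact this.symm
  have c2 : p' ^ Module.finrank (ZMod p') L = p' ^ (m : ℕ) := by
    have := Module.natCard_eq_pow_finrank (K := ZMod p') (V := L)
    rw [Nat.card_zmod, Nat.card_eq_fintype_card, hm] at this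
    exact this.symm
  have d1 := Nat.pow_right_injective hprime.two_le c1
  have d2 := Nat.pow_right_injective hprime.two_le c2
  have d3 : (m : ℕ) = n * 2 := by
    apply Nat.pow_right_injective hprime.two_le
    show p' ^ (m : ℕ) = p' ^ ((n : ℕ) * 2)
    rw [← hm, hL, pow_mul, ← hn, hF]
  have d4 : Module.finrank (ZMod p') F ∣ Module.finrank (ZMod p') L := by
    rw [d1, d2, d3]; exact dvd_mul_right _ _
  obtain ⟨f⟩ := FiniteField.nonempty_algHom_of_finrank_dvd d4
  exact ⟨f.toRingHom⟩

/-- The power map `x ↦ x ^ q` of the field with `q²` elements. -/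
theorem exists_sigma {F L : Type*} [Field F] [Fintype F] [Field L] [Fintype L] {q : ℕ}
    (hF : Fintype.card F = q) (hL : Fintype.card L = q ^ 2) :
    ∃ σ : L →+* L, (∀ x, σ x = x ^ q) ∧ ∀ x, σ (σ x) = x := by
  obtain ⟨i⟩ := exists_embedding hF hL
  obtain ⟨p, hp⟩ := CharP.exists F
  obtain ⟨n, hprime, hn⟩ := FiniteField.card F p
  have : Fact p.Prime := ⟨hprime⟩
  have hpL : CharP L p := charP_of_injective_ringHom i.injective p
  have : ExpChar L p := ExpChar.prime hprime
  refine ⟨iterateFrobenius L p n, fun x => ?_, fun x => ?_⟩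
  · rw [iterateFrobenius_def, ← hn, hF]
  · rw [iterateFrobenius_def, iterateFrobenius_def, ← hn, hF, ← pow_mul, ← sq, ← hL, FiniteField.pow_card]

section

variable {G Ω F : Type*} [Group G] [MulAction G Ω] [Field F] {a b : Ω} {Q : Subgroup G}
  {φ : SpecialLinearGroup (Fin 2) F →* G}

/-- Rank-one data. -/
theorem data (S : RegAct a b Q φ) : Data (stabilizer G a) Q (φ (NN F)) where
  w_not_mem h := by
    rw [mem_stabilizer_iff, S.N_a] at h
    exact S.ne h
  le x hx := S.Q_a x hx
  norm g hg x hx := S.Q_norm g hg x hx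
  bruhat g hg := by
    obtain ⟨x, hx, h⟩ := S.Q_trans (g • a) hg
    refine ⟨x, hx, ?_⟩
    rw [mem_stabilizer_iff, mul_smul, ← h, inv_smul_eq_iff, mul_smul, S.N_a]
  inter x hx h := by
    apply S.Q_free x hx
    rw [mem_stabilizer_iff, mul_smul, mul_smul, S.N_a, inv_smul_eq_iff, S.N_a] at h
    exact h

theorem core (S : RegAct a b Q φ) [IsSimpleGroup G] (g : G) (hg : ∀ k : G, k⁻¹ * g * k ∈ stabilizer G a) :
    g = 1 := by
  have h1 : (stabilizer G a).normalCore = ⊥ := by
    rcases ((stabilizer G a).normalCore_normal).eq_bot_or_eq_top with h | h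
    · exact h
    · exfalso
      have h2 : φ (NN F) ∈ (stabilizer G a).normalCore := by rw [h]; exact Subgroup.mem_top _
      exact (data S).w_not_mem (Subgroup.normalCore_le _ h2)
  have h2 : g ∈ (stabilizer G a).normalCore := by
    intro k
    simpa using hg k⁻¹
  rw [h1] at h2
  exact Subgroup.mem_bot.mp h2

/-- **Recognition of `PSU₃(q)`, `q` odd**, from a regular `SL₂(q)`. -/
theorem nonempty_mulEquiv_PSU (S : RegAct a b Q φ) [IsSimpleGroup G] [Fintype F] {L : Type*} [Field L] [Fintype L]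
    {q : ℕ} (hF : Fintype.card F = q) (hL : Fintype.card L = q ^ 2) : Nonempty (G ≃* Cfsg.PSU 3 L q) := by
  obtain ⟨i⟩ := exists_embedding hF hL
  obtain ⟨σ, hs, hσσ⟩ := exists_sigma hF hL
  have hσ : Fact (∀ x, σ (σ x) = x) := ⟨hσσ⟩
  have h2 : (2 : L) ≠ 0 := by
    intro h
    apply S.two
    apply i.injective
    rw [map_ofNat, map_zero]; exact h
  have hq : 2 < q := by
    have h1 : 1 < q := by rw [← hF]; exact Fintype.one_lt_card
    have h3 : q ≠ 2 := by
      rintro rfl
      apply S.two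
      have h4 : ((2 : ℕ) : F) = 0 := by
        rw [← hF]; exact FiniteField.cast_card_eq_zero F
      exact_mod_cast h4
    omega
  have hne : ∃ x, x ∉ Set.range S.del := ⟨_, S.base_not_mem⟩
  obtain ⟨Θ, η, hη0, hη, hδ, hrel⟩ := Heis.exists_heis S.coord hne i hF hL hs
  obtain ⟨H, S', w, ψ, D', hw', hcore', hgen', hrel'⟩ := Model.exists_model hq h2 hs hL hη0 hη
  have D := data S
  have hgen : Subgroup.closure ((Q : Set G) ∪ {φ (NN F)}) = ⊤ := by
    apply Model.closure_eq_top D
    intro h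
    obtain ⟨x, hx, h1⟩ := S.exists_not
    rw [h, Subgroup.mem_bot] at hx
    apply h1 0
    have h2 := congrArg Subtype.val S.del_zero
    rw [S.coe_del] at h2
    rw [h2, hx]; rfl
  have hnn : φ (NN F) * φ (NN F) ∈ stabilizer G a := by
    rw [mem_stabilizer_iff, mul_smul, S.N_a, S.N_b]
  obtain ⟨Φ, -, -⟩ := Model.exists_mulEquiv_of_data D D' hnn hw' (core S) hcore' hgen hgen' (Θ.trans ψ) (by
    intro x y hx h
    have hpt : φ (NN F) • (x : G) • b = (y : G) • b := by
      rw [mem_stabilizer_iff, mul_smul, inv_smul_eq_iff, mul_smul, mul_smul, mul_smul, S.N_a] at h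
      exact h
    have hΘx : Θ x ≠ 1 := fun h1 => hx (Θ.injective (h1.trans (map_one Θ).symm))
    apply hrel' (Θ x) (Θ y) hΘx
    · by_cases hxE : x ∈ Set.range S.del
      · obtain ⟨c, rfl⟩ := hxE
        have hc : c ≠ 0 := by
          rintro rfl
          exact hx S.del_zero
        rw [S.coe_del, S.N_E hc] at hpt
        have hy : y = S.del (-c⁻¹) := S.smul_b_inj' hpt.symm
        rw [hy, (hδ _).1, (hδ _).1, mul_zero, zero_div]
      · exact (hrel x y hxE (S.not_mem_of_smul hxE hpt) (S.T_B_of_N hxE (S.not_mem_of_smul hxE hpt) hpt).1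
          (S.T_B_of_N hxE (S.not_mem_of_smul hxE hpt) hpt).2).1
    · by_cases hxE : x ∈ Set.range S.del
      · obtain ⟨c, rfl⟩ := hxE
        have hc : c ≠ 0 := by
          rintro rfl
          exact hx S.del_zero
        have hic : i c ≠ 0 := fun h => hc (i.injective (by rw [h, map_zero]))
        rw [S.coe_del, S.N_E hc] at hpt
        have hy : y = S.del (-c⁻¹) := S.smul_b_inj' hpt.symm
        rw [hy, (hδ _).2, (hδ _).2, map_neg, map_inv₀]
        field_simp
      · exact (hrel x y hxE (S.not_mem_of_smul hxE hpt) (S.T_B_of_N hxE (S.not_mem_of_smul hxE hpt) hpt).1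
          (S.T_B_of_N hxE (S.not_mem_of_smul hxE hpt) hpt).2).2)
  exact ⟨Φ⟩

end

end Cfsg.Agent.UThreeOdd.Final
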